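import Mathlib
import Cfsg.Agent.S2530
import Cfsg.Agent.H551.OddTwo

/-!
# S4785, characteristic two: type `A_n` (helper976)

`evenPar_A`: for each proper parabolic subgroup `W_J` of `S_N`, `N = n + 1 ≥ 2`, there is a parabolic subgroup `W_K`
with an even number of double cosets `W_K \ W / W_J`.  `K = K_m = {i ≥ m}`: the number `N(m)` of double cosets is the
number of words of length `m` in the blocks `b` of `J` with at most `a_b` letters `b`.  `N(1) = k` is the number of
blocks; if `k` is odd and `b` is the only smallest block, then `N(a_b + 1) = k ^ (a_b + 1) - 1` is even; if two blocks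
have the same size, then `N(N)` is even.
-/

set_option autoImplicit false

namespace Cfsg.Agent.H976.OddM.ParA

open Cfsg.Agent.H551.OddTwo

section comb

variable {α β δ : Type*}

theorem ai (a : Equiv.Perm α) (x : α) : a (a⁻¹ x) = x := a.apply_symm_apply x

theorem ia (a : Equiv.Perm α) (x : α) : a⁻¹ (a x) = x := a.symm_apply_apply x

/-- extension of a partial bijection compatible with `π` -/
theorem exists_ext (π : α → β) [Finite δ] (e e' : δ → α) (he : Function.Injective e)
    (he' : Function.Injective e') (h : ∀ i, π (e i) = π (e' i)) :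
    ∃ y : Equiv.Perm α, (∀ x, π (y x) = π x) ∧ ∀ i, y (e i) = e' i := by
  classical
  have := Fintype.ofFinite δ
  suffices H : ∀ s : Finset δ, ∃ y : Equiv.Perm α, (∀ x, π (y x) = π x) ∧ ∀ i ∈ s, y (e i) = e' i by
    obtain ⟨y, h1, h2⟩ := H Finset.univ
    exact ⟨y, h1, fun i => h2 i (Finset.mem_univ i)⟩
  intro s
  induction s using Finset.induction_on with
  | empty => exact ⟨1, fun _ => rfl, fun i hi => absurd hi (Finset.notMem_empty i)⟩
  | insert a s ha ih =>
    obtain ⟨y, h1, h2⟩ := ih
    refine ⟨Equiv.swap (y (e a)) (e' a) * y, fun x => ?_, fun i hi => ?_⟩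
    · have h3 : ∀ z, π (Equiv.swap (y (e a)) (e' a) z) = π z := by
        intro z
        rw [Equiv.swap_apply_def]
        split_ifs with h4 h5
        · rw [h4, h1, h]
        · rw [h5, h1, h]
        · rfl
      rw [Equiv.Perm.mul_apply, h3, h1]
    · rw [Equiv.Perm.mul_apply]
      rcases Finset.mem_insert.1 hi with rfl | hi
      · exact Equiv.swap_apply_left _ _
      · rw [h2 i hi, Equiv.swap_apply_of_ne_of_ne]
        · rw [← h2 i hi]
          intro e1
          have h3 := he (y.injective e1)
          rw [h3] at hi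
          exact ha hi
        · intro e1
          exact ha (by rw [← he' e1]; exact hi)

/-- the Young subgroup of `π` -/
def Yg (π : α → β) : Subgroup (Equiv.Perm α) where
  carrier := {σ | ∀ x, π (σ x) = π x}
  mul_mem' {a b} ha hb x := by
    change π (a (b x)) = π x
    rw [ha, hb]
  one_mem' _ := rfl
  inv_mem' {a} ha x := by
    have h1 : π (a (a⁻¹ x)) = π (a⁻¹ x) := ha _
    rw [ai] at h1
    exact h1.symm

/-- the pointwise stabiliser of the image of `e` -/
def Fx (e : δ → α) : Subgroup (Equiv.Perm α) where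
  carrier := {σ | ∀ i, σ (e i) = e i}
  mul_mem' {a b} ha hb i := by
    change a (b (e i)) = e i
    rw [hb, ha]
  one_mem' _ := rfl
  inv_mem' {a} ha i := by
    change a⁻¹ (e i) = e i
    rw [Equiv.Perm.inv_eq_iff_eq]
    exact (ha i).symm

/-- `w` is a word with at most `a_b` letters `b` -/
def Good (π : α → β) (w : δ → β) : Prop := ∃ e' : δ → α, Function.Injective e' ∧ ∀ i, π (e' i) = w i

theorem card_orb_young (π : α → β) [Finite δ] (e : δ → α) (he : Function.Injective e) :
    Nat.card (MulAction.orbitRel.Quotient (Fx e) (Equiv.Perm α ⧸ Yg π)) = Nat.card {w : δ → β // Good π w} := by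
  refine card_eq_of_ker (orb (Fx e) (Yg π))
    (fun σ => (⟨fun i => π (σ⁻¹ (e i)), fun i => σ⁻¹ (e i), fun i j hij => he (σ⁻¹.injective hij), fun _ => rfl⟩ :
      {w : δ → β // Good π w})) (orb_surjective _ _) ?_ ?_
  · rintro ⟨w, e', h1, h2⟩
    obtain ⟨y, -, h3⟩ := exists_ext (fun _ : α => ()) e' e h1 he (fun _ => rfl)
    refine ⟨y, Subtype.ext (funext fun i => ?_)⟩
    change π (y⁻¹ (e i)) = w i
    rw [← h2 i, ← h3 i, ia]
  · intro σ τ
    rw [orb_eq_iff]
    constructor
    · rintro ⟨k, hk, q, hq, rfl⟩
      refine Subtype.ext (funext fun i => ?_)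
      change π ((k * τ * q)⁻¹ (e i)) = π (τ⁻¹ (e i))
      rw [mul_inv_rev, mul_inv_rev, Equiv.Perm.mul_apply, Equiv.Perm.mul_apply]
      have h1 : k⁻¹ (e i) = e i := inv_mem hk i
      have h2 : π (q⁻¹ (τ⁻¹ (e i))) = π (τ⁻¹ (e i)) := inv_mem hq _
      rw [h1, h2]
    · intro h
      have h1 : ∀ i, π (σ⁻¹ (e i)) = π (τ⁻¹ (e i)) := fun i => congrFun (congrArg Subtype.val h) i
      obtain ⟨y, h2, h3⟩ := exists_ext π (fun i => σ⁻¹ (e i)) (fun i => τ⁻¹ (e i))
        (fun i j hij => he (σ⁻¹.injective hij)) (fun i j hij => he (τ⁻¹.injective hij)) h1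
      refine ⟨σ * y⁻¹ * τ⁻¹, fun i => ?_, y, h2, by group⟩
      rw [Equiv.Perm.mul_apply, Equiv.Perm.mul_apply, ← h3 i, ia, ai]

theorem good_iff [Finite α] [Finite δ] (π : α → β) (w : δ → β) :
    Good π w ↔ ∀ b, Nat.card {i // w i = b} ≤ Nat.card {x // π x = b} := by
  classical
  constructor
  · rintro ⟨e', h1, h2⟩ b
    exact Nat.card_le_card_of_injective (fun i : {i // w i = b} => (⟨e' i.1, by rw [h2, i.2]⟩ : {x // π x = b}))
      fun i j hij => Subtype.ext (h1 (congrArg Subtype.val hij))
  · intro h
    have h1 : ∀ b, ∃ f : {i // w i = b} → {x // π x = b}, Function.Injective f := by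
      intro b
      have := Fintype.ofFinite {i // w i = b}
      have := Fintype.ofFinite {x // π x = b}
      have h2 := h b
      rw [Nat.card_eq_fintype_card, Nat.card_eq_fintype_card] at h2
      obtain ⟨f⟩ := Function.Embedding.nonempty_of_card_le h2
      exact ⟨f, f.injective⟩
    choose f hf using h1
    refine ⟨fun i => (f (w i) ⟨i, rfl⟩).1, fun i j hij => ?_, fun i => (f (w i) ⟨i, rfl⟩).2⟩
    have hij' : (f (w i) ⟨i, rfl⟩).1 = (f (w j) ⟨j, rfl⟩).1 := hij
    have h3 : w i = w j := by
      rw [← (f (w i) ⟨i, rfl⟩).2, hij', (f (w j) ⟨j, rfl⟩).2]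
    have h4 : ∀ (b : β) (hb : w i = b) (hb' : w j = b), (f b ⟨i, hb⟩).1 = (f b ⟨j, hb'⟩).1 → i = j := by
      intro b hb hb' h5
      exact congrArg Subtype.val (hf b (Subtype.ext h5))
    refine h4 (w j) h3 rfl ?_
    rw [← hij']
    have h6 : ∀ (b : β) (hb : w i = b), (f b ⟨i, hb⟩).1 = (f (w i) ⟨i, rfl⟩).1 := by
      intro b hb
      subst hb
      rfl
    exact h6 _ _

/-- **The parity of the number of words.** -/
theorem exists_even {N : ℕ} (π : Fin N → β) (hπ : Function.Surjective π) (hβ : 2 ≤ Nat.card β) :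
    ∃ m ≤ N, Even (Nat.card {w : Fin m → β // Good π w}) := by
  classical
  have hfin : Finite β := Finite.of_surjective π hπ
  have := Fintype.ofFinite β
  by_contra hcon
  push Not at hcon
  have hodd : ∀ m ≤ N, Odd (Nat.card {w : Fin m → β // Good π w}) := fun m hm =>
    Nat.not_even_iff_odd.1 (hcon m hm)
  set a : β → ℕ := fun b => Nat.card {x // π x = b} with ha
  have ha1 : ∀ b, 1 ≤ a b := fun b => by
    obtain ⟨x, hx⟩ := hπ b
    have : Nonempty {x // π x = b} := ⟨⟨x, hx⟩⟩
    exact Nat.card_pos
  have hne : Nonempty β := by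
    rw [← Finite.card_pos_iff]; omega
  obtain ⟨b0, hb0⟩ := Finite.exists_min a
  -- two different blocks
  obtain ⟨b1, hb1⟩ : ∃ b1, b1 ≠ b0 := by
    by_contra h
    push Not at h
    have : Nat.card β ≤ 1 := by
      rw [Finite.card_le_one_iff_subsingleton]
      exact ⟨fun x y => by rw [h x, h y]⟩
    omega
  have hN : a b0 + a b1 ≤ N := by
    have h1 : Function.Injective (Sum.elim (fun x : {x // π x = b0} => x.1) (fun x : {x // π x = b1} => x.1)) := by
      rintro (x | x) (y | y) hxy
      · exact congrArg Sum.inl (Subtype.ext hxy)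
      · exfalso
        apply hb1
        rw [← y.2, ← x.2]
        exact congrArg π hxy.symm
      · exfalso
        apply hb1
        rw [← y.2, ← x.2]
        exact congrArg π hxy
      · exact congrArg Sum.inr (Subtype.ext hxy)
    have h2 := Nat.card_le_card_of_injective _ h1
    rwa [Nat.card_sum, Nat.card_fin] at h2
  have hk : Odd (Nat.card β) := by
    have h1 := hodd 1 (by have := ha1 b0; omega)
    have h2 : Nat.card {w : Fin 1 → β // Good π w} = Nat.card β := by
      rw [Nat.card_congr (Equiv.subtypeUnivEquiv fun w => ?_), Nat.card_congr (Equiv.funUnique (Fin 1) β)]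
      obtain ⟨x, hx⟩ := hπ (w 0)
      exact ⟨fun _ => x, fun i j _ => Subsingleton.elim i j, fun i => by rw [Subsingleton.elim i 0]; exact hx⟩
    rwa [h2] at h1
  by_cases hu : ∃ b, b ≠ b0 ∧ a b = a b0
  · -- two blocks of the same size
    obtain ⟨b, hb, hab⟩ := hu
    have h1 := hodd N le_rfl
    have hgood : ∀ w : Fin N → β, Good π w → Good π (fun i => Equiv.swap b b0 (w i)) := by
      intro w hw
      rw [good_iff] at hw ⊢
      intro c
      have h2 : Nat.card {i // Equiv.swap b b0 (w i) = c} = Nat.card {i // w i = Equiv.swap b b0 c} :=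
        Nat.card_congr (Equiv.subtypeEquivRight fun i => by
          rw [Equiv.swap_apply_eq_iff])
      rw [h2]
      refine (hw _).trans (le_of_eq ?_)
      change a (Equiv.swap b b0 c) = a c
      rcases eq_or_ne c b with rfl | h3
      · rw [Equiv.swap_apply_left, hab]
      rcases eq_or_ne c b0 with rfl | h4
      · rw [Equiv.swap_apply_right, hab]
      · rw [Equiv.swap_apply_of_ne_of_ne h3 h4]
    let f : Function.End {w : Fin N → β // Good π w} :=
      fun w => ⟨fun i => Equiv.swap b b0 (w.1 i), hgood w.1 w.2⟩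
    have hf : Function.Involutive f := fun w => Subtype.ext (funext fun i => by
      change Equiv.swap b b0 (Equiv.swap b b0 (w.1 i)) = w.1 i
      rw [Equiv.swap_apply_eq_iff])
    have hno : ∀ w, f w ≠ w := by
      rintro ⟨w, e', h2, h3⟩ h4
      obtain ⟨x, hx⟩ := hπ b0
      obtain ⟨i, hi⟩ := (Finite.injective_iff_surjective.1 h2) x
      have h5 : Equiv.swap b b0 (w i) = w i := congrFun (congrArg Subtype.val h4) i
      rw [← h3 i, hi, hx, Equiv.swap_apply_right] at h5
      exact hb h5
    have h2 : f ^ 2 ^ 1 = 1 := by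
      rw [pow_one, sq]
      exact funext hf
    have := Fintype.ofFinite {w : Fin N → β // Good π w}
    have : Fact (Nat.Prime 2) := ⟨Nat.prime_two⟩
    have h3 := Equiv.Perm.card_fixedPoints_modEq h2
    have h4 : Fintype.card (Function.fixedPoints f) = 0 := by
      rw [Fintype.card_eq_zero_iff]
      exact ⟨fun w => hno w.1 w.2⟩
    rw [Nat.card_eq_fintype_card] at h1
    have h5 : Fintype.card {w : Fin N → β // Good π w} ≡ 0 [MOD 2] := h3.trans (by rw [← h4])
    have h6 : Fintype.card {w : Fin N → β // Good π w} % 2 = 0 := h5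
    exact Nat.not_odd_iff_even.2 (Nat.even_iff.2 h6) h1
  · push Not at hu
    have hj : ∀ c, c ≠ b0 → a b0 + 1 ≤ a c := fun c hc => lt_of_le_of_ne (hb0 c) (fun h => hu c hc h.symm)
    have h1 := hodd (a b0 + 1) (by have := hj b1 hb1; have := ha1 b0; omega)
    have h2 : ∀ w : Fin (a b0 + 1) → β, Good π w ↔ w ≠ fun _ => b0 := by
      intro w
      rw [good_iff]
      constructor
      · rintro h rfl
        have h3 := h b0
        rw [Nat.card_congr (Equiv.subtypeUnivEquiv fun _ => rfl), Nat.card_fin] at h3
        change a b0 + 1 ≤ a b0 at h3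
        omega
      · intro hw c
        by_cases hc : c = b0
        · subst hc
          obtain ⟨i, hi⟩ : ∃ i, w i ≠ c := by
            by_contra h
            push Not at h
            exact hw (funext h)
          have h3 : Nat.card {i // w i = c} < Nat.card (Fin (a c + 1)) := by
            refine Finite.card_subtype_lt (x := i) hi
          rw [Nat.card_fin] at h3
          change _ ≤ a c
          omega
        · refine le_trans ?_ (hj c hc)
          have h3 := Nat.card_le_card_of_injective (Subtype.val : {i // w i = c} → Fin (a b0 + 1))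
            Subtype.val_injective
          rwa [Nat.card_fin] at h3
    rw [Nat.card_congr (Equiv.subtypeEquivRight h2), Nat.card_eq_fintype_card, Fintype.card_subtype_compl,
      Fintype.card_subtype_eq, Fintype.card_fun, Fintype.card_fin, ← Nat.card_eq_fintype_card] at h1
    have h4 : Odd (Nat.card β ^ (a b0 + 1)) := hk.pow
    obtain ⟨r, hr⟩ := h1
    obtain ⟨s, hs⟩ := h4
    omega

end comb

section young

open Cfsg.Agent.Tits.Core Cfsg.Agent.S2530

variable {n : ℕ}

/-- the Young subgroup of a set of nodes -/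
def YJ (J : Set (Fin n)) : Subgroup (Equiv.Perm (Fin (n + 1))) := Subgroup.closure (adj n '' J)

theorem isSwap_adj (J : Set (Fin n)) : ∀ f ∈ adj n '' J, f.IsSwap := by
  rintro _ ⟨i, -, rfl⟩
  exact ⟨i.castSucc, i.succ, (Fin.castSucc_lt_succ).ne, rfl⟩

theorem mem_YJ (J : Set (Fin n)) (σ : Equiv.Perm (Fin (n + 1))) :
    σ ∈ YJ J ↔ ∀ x, σ x ∈ MulAction.orbit (YJ J) x := by
  unfold YJ
  rw [mem_closure_isSwap (isSwap_adj J)]
  exact and_iff_right (Set.toFinite _)

/-- the block of a point -/
def blk (J : Set (Fin n)) (x : Fin (n + 1)) : MulAction.orbitRel.Quotient (YJ J) (Fin (n + 1)) := Quotient.mk'' x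

theorem blk_eq_iff (J : Set (Fin n)) (x y : Fin (n + 1)) : blk J x = blk J y ↔ x ∈ MulAction.orbit (YJ J) y := by
  unfold blk
  rw [Quotient.eq'', MulAction.orbitRel_apply]

theorem YJ_eq (J : Set (Fin n)) : YJ J = Yg (blk J) := by
  ext σ
  rw [mem_YJ]
  exact forall_congr' fun x => (blk_eq_iff J _ _).symm

theorem blk_surjective (J : Set (Fin n)) : Function.Surjective (blk J) := Quotient.mk''_surjective

theorem two_le {J : Set (Fin n)} (hJ : J ≠ Set.univ) :
    2 ≤ Nat.card (MulAction.orbitRel.Quotient (YJ J) (Fin (n + 1))) := by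
  obtain ⟨i, hi⟩ := (Set.ne_univ_iff_exists_notMem _).1 hJ
  have h1 : YJ J ≤ Yg (fun x : Fin (n + 1) => decide (x.val ≤ i.val)) := by
    refine (Subgroup.closure_le _).2 ?_
    rintro _ ⟨j, hj, rfl⟩ x
    have hji : j.val ≠ i.val := fun e => hi (by rw [← Fin.ext e]; exact hj)
    change decide ((Equiv.swap j.castSucc j.succ x).val ≤ i.val) = decide (x.val ≤ i.val)
    rw [Equiv.swap_apply_def]
    split_ifs with h2 h3
    · rw [h2]
      simp only [Fin.val_succ, Fin.val_castSucc, decide_eq_decide]
      omega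
    · rw [h3]
      simp only [Fin.val_succ, Fin.val_castSucc, decide_eq_decide]
      omega
    · rfl
  have h2 : blk J i.castSucc ≠ blk J i.succ := by
    intro h3
    rw [blk_eq_iff] at h3
    obtain ⟨⟨σ, hσ⟩, h4⟩ := h3
    have h5 : decide ((σ i.succ).val ≤ i.val) = decide (i.succ.val ≤ i.val) := h1 hσ i.succ
    have h6 : σ i.succ = i.castSucc := h4
    rw [h6] at h5
    simp at h5
  have h3 : Function.Injective (fun b : Bool => if b then blk J i.castSucc else blk J i.succ) := by
    intro a b hab
    cases a <;> cases b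
    · rfl
    · exact absurd hab.symm (by simpa using h2)
    · exact absurd hab (by simpa using h2)
    · rfl
  have h4 := Nat.card_le_card_of_injective _ h3
  simpa using h4

theorem YJ_tail {m : ℕ} (hm : m ≤ n + 1) : YJ {i : Fin n | m ≤ i.val} = Fx (Fin.castLE hm) := by
  apply le_antisymm
  · refine (Subgroup.closure_le _).2 ?_
    rintro _ ⟨j, hj, rfl⟩ x
    have hj' : m ≤ j.val := hj
    have hx := x.2
    refine Equiv.swap_apply_of_ne_of_ne (fun h => ?_) (fun h => ?_)
    · have := congrArg Fin.val h
      simp at this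
      omega
    · have := congrArg Fin.val h
      simp at this
      omega
  · -- all points `≥ m` are in one orbit
    have key : ∀ d : ℕ, ∀ x y : Fin (n + 1), m ≤ x.val → y.val = x.val + d →
        y ∈ MulAction.orbit (YJ {i : Fin n | m ≤ i.val}) x := by
      intro d
      induction d with
      | zero =>
        intro x y _ h
        have : y = x := Fin.ext (by omega)
        rw [this]
        exact MulAction.mem_orbit_self x
      | succ d ih =>
        intro x y hx h
        have hy := y.2
        have h1 := ih x ⟨x.val + d, by omega⟩ hx rfl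
        have h2 : Equiv.swap (⟨x.val + d, by omega⟩ : Fin (n + 1)) y ∈ YJ {i : Fin n | m ≤ i.val} := by
          refine Subgroup.subset_closure ⟨⟨x.val + d, by omega⟩, ?_, ?_⟩
          · change m ≤ x.val + d
            omega
          · unfold adj
            congr 1
            exact Fin.ext (by simp; omega)
        have h3 : y = (⟨_, h2⟩ : YJ {i : Fin n | m ≤ i.val}) • (⟨x.val + d, by omega⟩ : Fin (n + 1)) := by
          change y = Equiv.swap _ _ _
          rw [Equiv.swap_apply_left]
        rw [h3]
        exact (MulAction.orbit_eq_iff.2 h1) ▸ MulAction.mem_orbit _ _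
    intro σ hσ
    rw [mem_YJ]
    intro x
    by_cases hx : x.val < m
    · have h1 : σ x = x := hσ ⟨x.val, hx⟩
      rw [h1]
      exact MulAction.mem_orbit_self x
    · push Not at hx
      have h1 : m ≤ (σ x).val := by
        by_contra h2
        push Not at h2
        have h3 : σ (σ x) = σ x := hσ ⟨(σ x).val, h2⟩
        have h4 := σ.injective h3
        rw [h4] at h2
        omega
      rcases le_total x.val (σ x).val with h2 | h2
      · exact key ((σ x).val - x.val) x (σ x) hx (by omega)
      · have h3 := key (x.val - (σ x).val) (σ x) x h1 (by omega)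
        exact MulAction.mem_orbit_symm.1 h3

/-- **Type `A_n`.** -/
theorem evenPar_A (n : ℕ) : EvenPar (Cfsg.Agent.LieRecognition.BNCox.cA n) := by
  intro J hJ
  obtain ⟨m, hm, he⟩ := exists_even (blk J) (blk_surjective J) (two_le hJ)
  obtain ⟨cs, hcs⟩ := Cfsg.Agent.S2530.result n
  rw [Cfsg.Agent.Nodes.RootsA.cA_eq]
  refine ⟨{i : Fin n | m ≤ i.val}, ?_⟩
  have hW : ∀ J : Set (Fin n), WJ cs J = YJ J := by
    intro J
    unfold WJ YJ
    rw [show cs.simple = adj n from funext hcs]
  rw [← par_eq cs, hW, hW, YJ_tail hm]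
  have h1 := card_orb_young (blk J) (Fin.castLE hm) (Fin.castLE_injective hm)
  rw [← YJ_eq] at h1
  rw [h1]
  exact he

end young

end Cfsg.Agent.H976.OddM.ParA
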