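import Mathlib
import Cfsg.Agent.H934.RowOrb
import Cfsg.Agent.H551.OddTwo

/-!
# S4785, characteristic two: type `E₆` (helper976)

`evenPar_E6`: for each proper parabolic subgroup `W_J` of `W(E₆)` there is a parabolic subgroup `W_K` with an even
number of double cosets `W_K \ W / W_J`.  `|W : W_J|` is even unless `W_J` is one of the two parabolic subgroups of
type `D₅`; these are the stabilisers of the first and the last point in the action on the `27` weights, and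
`W(D₄)` has `6` orbits on the `27` weights.
-/

set_option autoImplicit false

namespace Cfsg.Agent.H976.OddM.ParE6

open CoxeterSystem Cfsg.Agent.ChevalleyStructure.CoxeterGeom Cfsg.Agent.Tits.Roots Cfsg.Agent.Tits.Core
  Cfsg.Agent.Tits.Exchange Cfsg.Agent.ChevalleyStructure.WeylAbstract Cfsg.Agent.H35.Poin
  Cfsg.Agent.H934.RowOrb Cfsg.Agent.H551.OddTwo

/-! ### orders of parabolic subgroups -/

section order

variable {I W : Type*} [Fintype I] [DecidableEq I] [Group W] {M : CoxeterMatrix I}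
  {cs : CoxeterSystem M W} {A : I → I → ℤ}

theorem card_WJ_eq (h : IsCartan M A) (J : Set I) : Nat.card (WJ cs J) = Nat.card ((rdata cs h).W J) := by
  rw [W_eq]
  exact Nat.card_congr ((WJ cs J).equivMapOfInjective _ (perm_injective cs h)).toEquiv

/-- **One step of the parabolic chain** for the Weyl group. -/
theorem card_step [Finite W] (h : IsCartan M A) {JL : List I} {k : I} {L : List (List I)}
    (hO : OrbOK A JL k L) {JL' : List I} (hJ' : ∀ j, j ∈ JL' ↔ j ∈ JL ∧ j ≠ k) {N : ℕ}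
    (hN : Nat.card (WJ cs {j | j ∈ JL'}) = N) :
    Nat.card (WJ cs {j | j ∈ JL}) = L.length * N := by
  classical
  have : Finite (Rt cs h) := finite_rt cs h
  have : Fintype (Rt cs h) := Fintype.ofFinite _
  have hset : ({j | j ∈ JL} \ {k} : Set I) = {j | j ∈ JL'} := by
    ext j
    exact (hJ' j).symm
  have hQ : ∀ J : Set I, ∑ᶠ w ∈ ((rdata cs h).W J : Set (Equiv.Perm (Rt cs h))),
      (rdata cs h).Q (fun _ => (1 : ℕ)) w = Nat.card (WJ cs J) := by
    intro J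
    rw [card_WJ_eq h J]
    have h1 : ∀ w, (rdata cs h).Q (fun _ => (1 : ℕ)) w = 1 := fun w => by
      unfold RData.Q
      exact Finset.prod_const_one
    simp only [h1]
    rw [finsum_one]
    rfl
  have h2 := RData.sum_step (rdata cs h) (fun _ => (1 : ℕ)) (fun _ _ => rfl) (fun _ => rfl)
      (J := {j | j ∈ JL}) (k := k) (L.map (wtA A k)).toFinset ?_ ?_ ?_
  · rw [hset, hQ, hQ, hN] at h2
    rw [h2]
    congr 1
    have h1 : ∀ m, (rdata cs h).Qw (fun _ => (1 : ℕ)) m = 1 := fun m => by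
      unfold RData.Qw
      exact Finset.prod_const_one
    simp only [h1]
    rw [Finset.sum_const, smul_eq_mul, mul_one, List.toFinset_card_of_nodup hO.nodup, List.length_map]
  · rw [List.mem_toFinset, List.mem_map]
    exact ⟨[], hO.nil, rfl⟩
  · intro m hm j hj
    rw [List.mem_toFinset, List.mem_map] at hm ⊢
    obtain ⟨ω, hω, rfl⟩ := hm
    obtain ⟨ω', hω', h1⟩ := hO.closed ω hω j hj
    exact ⟨ω', hω', h1.symm⟩
  · intro m hm
    rw [List.mem_toFinset, List.mem_map] at hm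
    obtain ⟨ω, hω, rfl⟩ := hm
    exact reach_wt (hO.mem ω hω)

omit [Fintype I] [DecidableEq I] in
theorem card_nil : Nat.card (WJ cs {j | j ∈ ([] : List I)}) = 1 := by
  have h1 : ({j | j ∈ ([] : List I)} : Set I) = ∅ := by
    ext j
    simp
  rw [h1]
  unfold WJ
  rw [Set.image_empty, Subgroup.closure_empty]
  exact Subgroup.card_bot

end order

/-! ### `E₆` -/

def AM : List (List ℤ) := [[2, 0, -1, 0, 0, 0], [0, 2, 0, -1, 0, 0], [-1, 0, 2, -1, 0, 0], [0, -1, -1, 2, -1, 0],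
  [0, 0, 0, -1, 2, -1], [0, 0, 0, 0, -1, 2]]

def AE (i j : Fin 6) : ℤ := (AM.getD i []).getD j 0

set_option backward.isDefEq.respectTransparency false in
theorem isCartan : IsCartan CoxeterMatrix.E₆ AE := by
  constructor <;> decide +kernel

def L6 : List (List (Fin 6)) := [[], [0], [2, 0], [3, 2, 0], [1, 3, 2, 0], [4, 3, 2, 0], [4, 1, 3, 2, 0], [5, 4, 3, 2, 0], [3, 4, 1, 3, 2, 0], [5, 4, 1, 3, 2, 0], [2, 3, 4, 1, 3, 2, 0], [5, 3, 4, 1, 3, 2, 0], [0, 2, 3, 4, 1, 3, 2, 0], [5, 2, 3, 4, 1, 3, 2, 0], [4, 5, 3, 4, 1, 3, 2, 0], [5, 0, 2, 3, 4, 1, 3, 2, 0], [4, 5, 2, 3, 4, 1, 3, 2, 0], [4, 5, 0, 2, 3, 4, 1, 3, 2, 0], [3, 4, 5, 2, 3, 4, 1, 3, 2, 0], [3, 4, 5, 0, 2, 3, 4, 1, 3, 2, 0], [1, 3, 4, 5, 2, 3, 4, 1, 3, 2, 0], [1, 3, 4, 5, 0, 2, 3, 4, 1, 3, 2, 0], [2, 3, 4, 5, 0, 2, 3, 4, 1, 3, 2, 0], [2, 1, 3, 4, 5, 0, 2, 3, 4, 1, 3, 2, 0], [3, 2, 1, 3, 4, 5, 0, 2, 3, 4, 1, 3, 2, 0], [4, 3, 2, 1, 3, 4, 5, 0, 2, 3, 4, 1, 3,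 2, 0], [5, 4, 3, 2, 1, 3, 4, 5, 0, 2, 3, 4, 1, 3, 2, 0]]

theorem L6_ok : OrbOK AE [0, 1, 2, 3, 4, 5] 0 L6 := by constructor <;> decide +kernel

def L5 : List (List (Fin 6)) := [[], [5], [4, 5], [3, 4, 5], [1, 3, 4, 5], [2, 3, 4, 5], [2, 1, 3, 4, 5], [3, 2, 1, 3, 4, 5], [4, 3, 2, 1, 3, 4, 5], [5, 4, 3, 2, 1, 3, 4, 5]]

theorem L5_ok : OrbOK AE [1, 2, 3, 4, 5] 5 L5 := by constructor <;> decide +kernel

def L5x : List (List (Fin 6)) := [[], [0], [2, 0], [3, 2, 0], [1, 3, 2, 0], [4, 3, 2, 0], [4, 1, 3, 2, 0], [3, 4, 1, 3, 2, 0], [2, 3, 4, 1, 3, 2, 0], [0, 2, 3, 4, 1, 3, 2, 0]]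

theorem L5x_ok : OrbOK AE [0, 1, 2, 3, 4] 0 L5x := by constructor <;> decide +kernel

def L4 : List (List (Fin 6)) := [[], [4], [3, 4], [1, 3, 4], [2, 3, 4], [2, 1, 3, 4], [3, 2, 1, 3, 4], [4, 3, 2, 1, 3, 4]]

theorem L4_ok : OrbOK AE [1, 2, 3, 4] 4 L4 := by constructor <;> decide +kernel

def a3 : List (List (Fin 6)) := [[], [1], [3, 1], [2, 3, 1]]

theorem a3_ok : OrbOK AE [1, 2, 3] 1 a3 := by constructor <;> decide +kernel

def a2 : List (List (Fin 6)) := [[], [2], [3, 2]]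

theorem a2_ok : OrbOK AE [2, 3] 2 a2 := by constructor <;> decide +kernel

def a1 : List (List (Fin 6)) := [[], [3]]

theorem a1_ok : OrbOK AE [3] 3 a1 := by constructor <;> decide +kernel

def b5 : List (List (Fin 6)) := [[], [5], [4, 5], [3, 4, 5], [2, 3, 4, 5], [0, 2, 3, 4, 5]]

theorem b5_ok : OrbOK AE [0, 2, 3, 4, 5] 5 b5 := by constructor <;> decide +kernel

def b4 : List (List (Fin 6)) := [[], [4], [3, 4], [2, 3, 4], [0, 2, 3, 4]]

theorem b4_ok : OrbOK AE [0, 2, 3, 4] 4 b4 := by constructor <;> decide +kernel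

def b3 : List (List (Fin 6)) := [[], [3], [2, 3], [0, 2, 3]]

theorem b3_ok : OrbOK AE [0, 2, 3] 3 b3 := by constructor <;> decide +kernel

def b2 : List (List (Fin 6)) := [[], [2], [0, 2]]

theorem b2_ok : OrbOK AE [0, 2] 2 b2 := by constructor <;> decide +kernel

def b1 : List (List (Fin 6)) := [[], [0]]

theorem b1_ok : OrbOK AE [0] 0 b1 := by constructor <;> decide +kernel

def c5 : List (List (Fin 6)) := [[], [5], [4, 5], [3, 4, 5], [1, 3, 4, 5]]

theorem c5_ok : OrbOK AE [0, 1, 3, 4, 5] 5 c5 := by constructor <;> decide +kernel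

def c4 : List (List (Fin 6)) := [[], [4], [3, 4], [1, 3, 4]]

theorem c4_ok : OrbOK AE [0, 1, 3, 4] 4 c4 := by constructor <;> decide +kernel

def c3 : List (List (Fin 6)) := [[], [3], [1, 3]]

theorem c3_ok : OrbOK AE [0, 1, 3] 3 c3 := by constructor <;> decide +kernel

def c2 : List (List (Fin 6)) := [[], [1]]

theorem c2_ok : OrbOK AE [0, 1] 1 c2 := by constructor <;> decide +kernel

def d5 : List (List (Fin 6)) := [[], [5], [4, 5]]

theorem d5_ok : OrbOK AE [0, 1, 2, 4, 5] 5 d5 := by constructor <;> decide +kernel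

def d4 : List (List (Fin 6)) := [[], [4]]

theorem d4_ok : OrbOK AE [0, 1, 2, 4] 4 d4 := by constructor <;> decide +kernel

def d3 : List (List (Fin 6)) := [[], [2], [0, 2]]

theorem d3_ok : OrbOK AE [0, 1, 2] 2 d3 := by constructor <;> decide +kernel

def e5 : List (List (Fin 6)) := [[], [5]]

theorem e5_ok : OrbOK AE [0, 1, 2, 3, 5] 5 e5 := by constructor <;> decide +kernel

def e4 : List (List (Fin 6)) := [[], [0], [2, 0], [3, 2, 0], [1, 3, 2, 0]]

theorem e4_ok : OrbOK AE [0, 1, 2, 3] 0 e4 := by constructor <;> decide +kernel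

def TT : List (List (Fin 27)) := [[1, 0, 2, 3, 4, 5, 6, 7, 8, 9, 12, 11, 10, 15, 14, 13, 17, 16, 19, 18, 21, 20, 22, 23, 24, 25, 26], [0, 1, 2, 4, 3, 6, 5, 9, 8, 7, 10, 11, 12, 13, 14, 15, 16, 17, 20, 21, 18, 19, 23, 22, 24, 25, 26], [0, 2, 1, 3, 4, 5, 6, 7, 10, 9, 8, 13, 12, 11, 16, 15, 14, 17, 18, 22, 20, 23, 19, 21, 24, 25, 26], [0, 1, 3, 2, 4, 5, 8, 7, 6, 11, 10, 9, 12, 13, 14, 15, 18, 19, 16, 17, 20, 21, 22, 24, 23, 25, 26], [0, 1, 2, 5, 6, 3, 4, 7, 8, 9, 10, 14, 12, 16, 11, 17, 13, 15, 18, 19, 20, 21, 22, 23, 25, 24, 26], [0, 1, 2, 3, 4, 7, 9, 5, 11, 6, 13, 8, 15, 10, 14, 12, 16, 17, 18, 19, 20, 21, 22, 23, 24, 26, 25]]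

def lab : List (Fin 6) := [0, 1, 1, 1, 1, 1, 1, 2, 1, 2, 1, 2, 3, 2, 2, 4, 2, 4, 2, 4, 2, 4, 4, 4, 4, 4, 5]

def reps : List (Fin 27) := [0, 1, 7, 12, 15, 26]

def wd : List (List (Fin 6)) := [[], [], [2], [3, 2], [1, 3, 2], [4, 3, 2], [1, 4, 3, 2], [], [3, 1, 4, 3, 2], [1], [2, 3, 1, 4, 3, 2], [3, 1], [], [2, 3, 1], [4, 3, 1], [], [2, 4, 3, 1], [4], [3, 2, 4, 3, 1], [3, 4], [1, 3, 2, 4, 3, 1], [1, 3, 4], [2, 3, 4], [1, 2, 3, 4], [3, 1, 2, 3, 4], [4, 3, 1, 2, 3, 4], []]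

def tr : List (List (Fin 6)) := [[], [0], [2, 0], [3, 2, 0], [1, 3, 2, 0], [4, 3, 2, 0], [4, 1, 3, 2, 0], [5, 4, 3, 2, 0], [3, 4, 1, 3, 2, 0], [5, 4, 1, 3, 2, 0], [2, 3, 4, 1, 3, 2, 0], [5, 3, 4, 1, 3, 2, 0], [0, 2, 3, 4, 1, 3, 2, 0], [5, 2, 3, 4, 1, 3, 2, 0], [4, 5, 3, 4, 1, 3, 2, 0], [5, 0, 2, 3, 4, 1, 3, 2, 0], [4, 5, 2, 3, 4, 1, 3, 2, 0], [4, 5, 0, 2, 3, 4, 1, 3, 2, 0], [3, 4, 5, 2, 3, 4, 1, 3, 2, 0], [3, 4, 5, 0, 2, 3, 4, 1, 3, 2, 0], [1, 3, 4, 5, 2, 3, 4, 1, 3, 2, 0], [1, 3, 4, 5, 0, 2, 3, 4, 1, 3, 2, 0], [2, 3, 4, 5, 0, 2, 3, 4, 1, 3, 2, 0], [2, 1, 3, 4, 5, 0, 2, 3, 4, 1, 3, 2, 0], [3, 2, 1, 3, 4, 5, 0, 2, 3, 4, 1, 3, 2, 0], [4, 3, 2, 1, 3, 4, 5, 0, 2, 3, 4, 1, 3, 2, 0], [5, 4, 3, 2, 1, 3, 4, 5, 0, 2, 3, 4, 1, 3, 2, 0]]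


/-! ### the orders -/

section orders

variable {W : Type*} [Group W] [Finite W] (cs : CoxeterSystem CoxeterMatrix.E₆ W)

theorem card_a1 : Nat.card (WJ cs {j | j ∈ ([3] : List (Fin 6))}) = 2 :=
  card_step isCartan a1_ok (JL' := []) (by decide) card_nil

theorem card_a2 : Nat.card (WJ cs {j | j ∈ ([2, 3] : List (Fin 6))}) = 6 :=
  card_step isCartan a2_ok (JL' := [3]) (by decide) (card_a1 cs)

theorem card_a3 : Nat.card (WJ cs {j | j ∈ ([1, 2, 3] : List (Fin 6))}) = 24 :=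
  card_step isCartan a3_ok (JL' := [2, 3]) (by decide) (card_a2 cs)

theorem card_4 : Nat.card (WJ cs {j | j ∈ ([1, 2, 3, 4] : List (Fin 6))}) = 192 :=
  card_step isCartan L4_ok (JL' := [1, 2, 3]) (by decide) (card_a3 cs)

theorem card_5 : Nat.card (WJ cs {j | j ∈ ([1, 2, 3, 4, 5] : List (Fin 6))}) = 1920 :=
  card_step isCartan L5_ok (JL' := [1, 2, 3, 4]) (by decide) (card_4 cs)

theorem card_5x : Nat.card (WJ cs {j | j ∈ ([0, 1, 2, 3, 4] : List (Fin 6))}) = 1920 :=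
  card_step isCartan L5x_ok (JL' := [1, 2, 3, 4]) (by decide) (card_4 cs)

theorem card_6 : Nat.card (WJ cs {j | j ∈ ([0, 1, 2, 3, 4, 5] : List (Fin 6))}) = 51840 :=
  card_step isCartan L6_ok (JL' := [1, 2, 3, 4, 5]) (by decide) (card_5 cs)

theorem card_b1 : Nat.card (WJ cs {j | j ∈ ([0] : List (Fin 6))}) = 2 :=
  card_step isCartan b1_ok (JL' := []) (by decide) card_nil

theorem card_b2 : Nat.card (WJ cs {j | j ∈ ([0, 2] : List (Fin 6))}) = 6 :=
  card_step isCartan b2_ok (JL' := [0]) (by decide) (card_b1 cs)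

theorem card_b3 : Nat.card (WJ cs {j | j ∈ ([0, 2, 3] : List (Fin 6))}) = 24 :=
  card_step isCartan b3_ok (JL' := [0, 2]) (by decide) (card_b2 cs)

theorem card_b4 : Nat.card (WJ cs {j | j ∈ ([0, 2, 3, 4] : List (Fin 6))}) = 120 :=
  card_step isCartan b4_ok (JL' := [0, 2, 3]) (by decide) (card_b3 cs)

theorem card_b5 : Nat.card (WJ cs {j | j ∈ ([0, 2, 3, 4, 5] : List (Fin 6))}) = 720 :=
  card_step isCartan b5_ok (JL' := [0, 2, 3, 4]) (by decide) (card_b4 cs)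

theorem card_c2 : Nat.card (WJ cs {j | j ∈ ([0, 1] : List (Fin 6))}) = 4 :=
  card_step isCartan c2_ok (JL' := [0]) (by decide) (card_b1 cs)

theorem card_c3 : Nat.card (WJ cs {j | j ∈ ([0, 1, 3] : List (Fin 6))}) = 12 :=
  card_step isCartan c3_ok (JL' := [0, 1]) (by decide) (card_c2 cs)

theorem card_c4 : Nat.card (WJ cs {j | j ∈ ([0, 1, 3, 4] : List (Fin 6))}) = 48 :=
  card_step isCartan c4_ok (JL' := [0, 1, 3]) (by decide) (card_c3 cs)

theorem card_c5 : Nat.card (WJ cs {j | j ∈ ([0, 1, 3, 4, 5] : List (Fin 6))}) = 240 :=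
  card_step isCartan c5_ok (JL' := [0, 1, 3, 4]) (by decide) (card_c4 cs)

theorem card_d3 : Nat.card (WJ cs {j | j ∈ ([0, 1, 2] : List (Fin 6))}) = 12 :=
  card_step isCartan d3_ok (JL' := [0, 1]) (by decide) (card_c2 cs)

theorem card_d4 : Nat.card (WJ cs {j | j ∈ ([0, 1, 2, 4] : List (Fin 6))}) = 24 :=
  card_step isCartan d4_ok (JL' := [0, 1, 2]) (by decide) (card_d3 cs)

theorem card_d5 : Nat.card (WJ cs {j | j ∈ ([0, 1, 2, 4, 5] : List (Fin 6))}) = 72 :=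
  card_step isCartan d5_ok (JL' := [0, 1, 2, 4]) (by decide) (card_d4 cs)

theorem card_e4 : Nat.card (WJ cs {j | j ∈ ([0, 1, 2, 3] : List (Fin 6))}) = 120 :=
  card_step isCartan e4_ok (JL' := [1, 2, 3]) (by decide) (card_a3 cs)

theorem card_e5 : Nat.card (WJ cs {j | j ∈ ([0, 1, 2, 3, 5] : List (Fin 6))}) = 240 :=
  card_step isCartan e5_ok (JL' := [0, 1, 2, 3]) (by decide) (card_e4 cs)

end orders

/-! ### the `27` weights -/

def tb (j : Fin 6) (x : Fin 27) : Fin 27 := (TT.getD j.val []).getD x.val 0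

theorem tb_tb : ∀ (j : Fin 6) (x : Fin 27), tb j (tb j x) = x := by decide +kernel

def tp (j : Fin 6) : Equiv.Perm (Fin 27) := ⟨tb j, tb j, tb_tb j, tb_tb j⟩

set_option backward.isDefEq.respectTransparency false in
theorem liftable_aux : ∀ (i j : Fin 6) (x : Fin 27), (fun y => tb i (tb j y))^[CoxeterMatrix.E₆.M i j] x = x := by
  decide +kernel

theorem liftable : CoxeterMatrix.E₆.IsLiftable tp := by
  intro i j
  ext x
  have h1 : ∀ (n : ℕ) (x : Fin 27), ((tp i * tp j) ^ n) x = (fun y => tb i (tb j y))^[n] x := by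
    intro n
    induction n with
    | zero => intro x; rfl
    | succ n ih =>
      intro x
      rw [pow_succ, Equiv.Perm.mul_apply, ih, Function.iterate_succ_apply]
      rfl
  rw [h1]
  exact congrArg Fin.val (liftable_aux i j x)

section act

variable {W : Type*} [Group W] (cs : CoxeterSystem CoxeterMatrix.E₆ W)

/-- the action on the weights -/
noncomputable def phi : W →* Equiv.Perm (Fin 27) := cs.lift ⟨tp, liftable⟩

theorem phi_simple (i : Fin 6) (x : Fin 27) : phi cs (cs.simple i) x = tb i x := by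
  unfold phi
  rw [cs.lift_apply_simple liftable i]
  rfl

theorem exists_word {K : Set (Fin 6)} : ∀ ω : List (Fin 6), (∀ j ∈ ω, j ∈ K) →
    ∃ w ∈ WJ cs K, ∀ x, phi cs w x = ω.foldr tb x
  | [], _ => ⟨1, one_mem _, fun x => by rw [map_one]; rfl⟩
  | j :: ω, h => by
    obtain ⟨w, hw, h1⟩ := exists_word ω fun i hi => h i (List.mem_cons_of_mem _ hi)
    refine ⟨cs.simple j * w, mul_mem (Subgroup.subset_closure ⟨j, h j List.mem_cons_self, rfl⟩) hw, fun x => ?_⟩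
    rw [map_mul, Equiv.Perm.mul_apply, h1, phi_simple, List.foldr_cons]

theorem inv_eq {K : Set (Fin 6)} {α : Type*} (f : Fin 27 → α) (hf : ∀ j ∈ K, ∀ x, f (tb j x) = f x) {w : W}
    (hw : w ∈ WJ cs K) : ∀ x, f (phi cs w x) = f x := by
  unfold WJ at hw
  induction hw using Subgroup.closure_induction with
  | mem y hy =>
    obtain ⟨j, hj, rfl⟩ := hy
    intro x
    rw [phi_simple]
    exact hf j hj x
  | one => intro x; rw [map_one]; rfl
  | mul a b _ _ ha hb =>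
    intro x
    rw [map_mul, Equiv.Perm.mul_apply, ha, hb]
  | inv a _ ha =>
    intro x
    rw [← ha, ← Equiv.Perm.mul_apply, ← map_mul, mul_inv_cancel, map_one]
    rfl

def lb (x : Fin 27) : Fin 6 := lab.getD x.val 0

def wdf (x : Fin 27) : List (Fin 6) := wd.getD x.val []

def trf (x : Fin 27) : List (Fin 6) := tr.getD x.val []

def rp (c : Fin 6) : Fin 27 := reps.getD c.val 0

theorem lb_tb : ∀ j ∈ ([1, 2, 3, 4] : List (Fin 6)), ∀ x, lb (tb j x) = lb x := by decide +kernel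

theorem wdf_mem : ∀ x, ∀ j ∈ wdf x, j ∈ ([1, 2, 3, 4] : List (Fin 6)) := by decide +kernel

theorem wdf_eq : ∀ x, (wdf x).foldr tb (rp (lb x)) = x := by decide +kernel

theorem trf_eq : ∀ x, (trf x).foldr tb 0 = x := by decide +kernel

theorem lb_rp : ∀ c, lb (rp c) = c := by decide +kernel

theorem trans (p x : Fin 27) : ∃ w : W, phi cs w p = x := by
  obtain ⟨w1, -, h1⟩ := exists_word (K := Set.univ) cs (trf p) fun _ _ => trivial
  obtain ⟨w2, -, h2⟩ := exists_word (K := Set.univ) cs (trf x) fun _ _ => trivial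
  refine ⟨w2 * w1⁻¹, ?_⟩
  have h3 : phi cs w1 0 = p := by rw [h1, trf_eq]
  have h4 : phi cs w1⁻¹ p = 0 := by
    rw [← h3, ← Equiv.Perm.mul_apply, ← map_mul, inv_mul_cancel, map_one]
    rfl
  rw [map_mul, Equiv.Perm.mul_apply, h4, h2, trf_eq]

theorem WJ_univ : WJ cs {j | j ∈ ([0, 1, 2, 3, 4, 5] : List (Fin 6))} = ⊤ := by
  have h1 : ({j | j ∈ ([0, 1, 2, 3, 4, 5] : List (Fin 6))} : Set (Fin 6)) = Set.univ := by
    rw [Set.eq_univ_iff_forall]
    intro j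
    revert j
    change ∀ j : Fin 6, j ∈ ([0, 1, 2, 3, 4, 5] : List (Fin 6))
    decide
  rw [h1]
  unfold WJ
  rw [Set.image_univ]
  exact cs.subgroup_closure_range_simple

include cs in
theorem card_W [Finite W] : Nat.card W = 51840 := by
  rw [← card_6 cs, WJ_univ, Subgroup.card_top]

/-- `W_J` is the stabiliser of a point -/
theorem WJ_eq_stab [Finite W] {p : Fin 27} {J : Set (Fin 6)} (hJ : ∀ j ∈ J, tb j p = p)
    (hcard : Nat.card (WJ cs J) = 1920) :
    WJ cs J = (MulAction.stabilizer (Equiv.Perm (Fin 27)) p).comap (phi cs) := by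
  set St := (MulAction.stabilizer (Equiv.Perm (Fin 27)) p).comap (phi cs) with hSt
  have hmem : ∀ w, w ∈ St ↔ phi cs w p = p := fun w => Iff.rfl
  have hle : WJ cs J ≤ St := by
    refine (Subgroup.closure_le _).2 ?_
    rintro _ ⟨j, hj, rfl⟩
    change phi cs (cs.simple j) p = p
    rw [phi_simple]
    exact hJ j hj
  have h1 : Nat.card (W ⧸ St) = Nat.card (Fin 27) := by
    refine card_eq_of_ker (QuotientGroup.mk : W → W ⧸ St) (fun w => phi cs w p) QuotientGroup.mk_surjective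
      (trans cs p) fun x y => ?_
    rw [QuotientGroup.eq, hmem, map_mul, Equiv.Perm.mul_apply, map_inv, Equiv.Perm.inv_eq_iff_eq]
    exact eq_comm
  have h2 := St.card_mul_index
  have h3 : St.index = 27 := by rw [← Nat.card_fin 27]; exact h1
  rw [h3, card_W cs] at h2
  refine Subgroup.eq_of_le_of_card_ge hle ?_
  rw [hcard]
  omega

theorem card_orbits [Finite W] {p : Fin 27} {J : Set (Fin 6)} (hJ : ∀ j ∈ J, tb j p = p)
    (hcard : Nat.card (WJ cs J) = 1920) :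
    Nat.card (MulAction.orbitRel.Quotient (WJ cs {j | j ∈ ([1, 2, 3, 4] : List (Fin 6))}) (W ⧸ WJ cs J)) = 6 := by
  rw [WJ_eq_stab cs hJ hcard]
  have h6 : Nat.card (Fin 6) = 6 := Nat.card_fin 6
  conv_rhs => rw [← h6]
  refine card_eq_of_ker (orb _ _) (fun w => lb (phi cs w p)) (orb_surjective _ _) ?_ ?_
  · intro c
    obtain ⟨w, hw⟩ := trans cs p (rp c)
    refine ⟨w, ?_⟩
    change lb (phi cs w p) = c
    rw [hw, lb_rp]
  · intro x y
    rw [orb_eq_iff]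
    constructor
    · rintro ⟨k, hk, q, hq, rfl⟩
      have h1 : phi cs q p = p := hq
      rw [map_mul, map_mul, Equiv.Perm.mul_apply, Equiv.Perm.mul_apply, h1]
      exact inv_eq cs lb lb_tb hk _
    · intro h
      have h' : lb (phi cs x p) = lb (phi cs y p) := h
      obtain ⟨w1, hw1, h1⟩ := exists_word cs (K := {j | j ∈ ([1, 2, 3, 4] : List (Fin 6))}) (wdf (phi cs x p))
        (wdf_mem _)
      obtain ⟨w2, hw2, h2⟩ := exists_word cs (K := {j | j ∈ ([1, 2, 3, 4] : List (Fin 6))}) (wdf (phi cs y p))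
        (wdf_mem _)
      have h3 : phi cs w1 (rp (lb (phi cs x p))) = phi cs x p := by rw [h1, wdf_eq]
      have h4 : phi cs w2 (rp (lb (phi cs y p))) = phi cs y p := by rw [h2, wdf_eq]
      refine ⟨w1 * w2⁻¹, mul_mem hw1 (inv_mem hw2), y⁻¹ * (w2 * w1⁻¹) * x, ?_, by group⟩
      change phi cs (y⁻¹ * (w2 * w1⁻¹) * x) p = p
      have h5 : phi cs w1⁻¹ (phi cs x p) = rp (lb (phi cs x p)) := by
        conv_lhs => rw [← h3]
        rw [← Equiv.Perm.mul_apply, ← map_mul, inv_mul_cancel, map_one]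
        rfl
      rw [map_mul, map_mul, map_mul, Equiv.Perm.mul_apply, Equiv.Perm.mul_apply, Equiv.Perm.mul_apply, h5, h', h4,
        ← Equiv.Perm.mul_apply, ← map_mul, inv_mul_cancel, map_one]
      rfl

theorem even_of_le [Finite W] {J J' : Set (Fin 6)} (hJ : J ⊆ J') {m : ℕ} (hm : Nat.card (WJ cs J') = m)
    (h : ¬ 128 ∣ m) : Even (WJ cs J).index := by
  by_contra hc
  rw [Nat.not_even_iff_odd] at hc
  have h1 := (WJ cs J).card_mul_index
  rw [card_W cs] at h1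
  have h2 : Nat.card (WJ cs J) ∣ m := by
    rw [← hm]
    exact Subgroup.card_dvd_of_le (Subgroup.closure_mono (Set.image_mono hJ))
  have h3 : 128 ∣ Nat.card (WJ cs J) := by
    have h4 : (128 : ℕ) ∣ Nat.card (WJ cs J) * (WJ cs J).index := by rw [h1]; decide
    refine Nat.Coprime.dvd_of_dvd_mul_right ?_ h4
    rw [show (128 : ℕ) = 2 ^ 7 from rfl]
    exact Nat.Coprime.pow_left 7 (Nat.coprime_two_left.2 hc)
  exact h (h3.trans h2)

end act

/-- **Type `E₆`.** -/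
theorem evenPar_E6 (hfin : Finite CoxeterMatrix.E₆.Group) : EvenPar CoxeterMatrix.E₆ := by
  intro J hJ
  set cs := CoxeterMatrix.E₆.toCoxeterSystem with hcs
  have hempty : ∀ {L : List (Fin 6)} {m : ℕ}, Nat.card (WJ cs {j | j ∈ L}) = m → ¬ 128 ∣ m → J ⊆ {j | j ∈ L} →
      ∃ K : Set (Fin 6), Even (Par CoxeterMatrix.E₆ J K) := fun h1 h2 h3 =>
    ⟨∅, by rw [par_empty]; exact even_of_le cs h3 h1 h2⟩
  have hsub : ∀ (L : List (Fin 6)) (i : Fin 6), i ∉ J → (∀ j, j ∉ L → j = i) → J ⊆ {j | j ∈ L} := by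
    intro L i hi hL j hj
    by_contra h
    rw [hL j h] at hj
    exact hi hj
  by_cases h1 : (1 : Fin 6) ∈ J
  swap
  · exact hempty (card_b5 cs) (by decide) (hsub _ 1 h1 (by decide))
  by_cases h2 : (2 : Fin 6) ∈ J
  swap
  · exact hempty (card_c5 cs) (by decide) (hsub _ 2 h2 (by decide))
  by_cases h3 : (3 : Fin 6) ∈ J
  swap
  · exact hempty (card_d5 cs) (by decide) (hsub _ 3 h3 (by decide))
  by_cases h4 : (4 : Fin 6) ∈ J
  swap
  · exact hempty (card_e5 cs) (by decide) (hsub _ 4 h4 (by decide))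
  by_cases h0 : (0 : Fin 6) ∈ J
  · by_cases h5 : (5 : Fin 6) ∈ J
    · exfalso
      apply hJ
      rw [Set.eq_univ_iff_forall]
      intro j
      fin_cases j <;> assumption
    · have hJ' : J = {j | j ∈ ([0, 1, 2, 3, 4] : List (Fin 6))} := by
        refine Set.Subset.antisymm (hsub _ 5 h5 (by decide)) fun j hj => ?_
        fin_cases j <;> first | assumption | exact absurd hj (by decide)
      refine ⟨{j | j ∈ ([1, 2, 3, 4] : List (Fin 6))}, ?_⟩
      have h6 := card_orbits cs (p := 26) (J := {j | j ∈ ([0, 1, 2, 3, 4] : List (Fin 6))})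
        (show ∀ j ∈ ([0, 1, 2, 3, 4] : List (Fin 6)), tb j 26 = 26 by decide +kernel) (card_5x cs)
      rw [par_eq] at h6
      rw [hJ', h6]
      decide
  · by_cases h5 : (5 : Fin 6) ∈ J
    · have hJ' : J = {j | j ∈ ([1, 2, 3, 4, 5] : List (Fin 6))} := by
        refine Set.Subset.antisymm (hsub _ 0 h0 (by decide)) fun j hj => ?_
        fin_cases j <;> first | assumption | exact absurd hj (by decide)
      refine ⟨{j | j ∈ ([1, 2, 3, 4] : List (Fin 6))}, ?_⟩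
      have h6 := card_orbits cs (p := 0) (J := {j | j ∈ ([1, 2, 3, 4, 5] : List (Fin 6))})
        (show ∀ j ∈ ([1, 2, 3, 4, 5] : List (Fin 6)), tb j 0 = 0 by decide +kernel) (card_5 cs)
      rw [par_eq] at h6
      rw [hJ', h6]
      decide
    · refine hempty (card_4 cs) (by decide) ?_
      intro j hj
      fin_cases j
      · exact absurd hj h0
      · decide
      · decide
      · decide
      · decide
      · exact absurd hj h5

end Cfsg.Agent.H976.OddM.ParE6
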