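import Cfsg.Agent.H976.OddM.UnC2

/-!
# Irreducible groups generated by unitary transvections, odd characteristic: elimination of
`SL₂(5) ≤ SL₂(9)`
-/

set_option autoImplicit false
set_option linter.unusedSectionVars false

namespace Cfsg.Agent.H976.OddM.UnC

open Cfsg Module Cfsg.Agent.LieClassical.HermBasic Cfsg.Agent.ClassicalGeometry.UnitTransv
open Cfsg.Agent.H453.OddM.Un hiding ho_add_left ho_sub_left ho_smul_left ho_smul_right ho_zero_left
open scoped Matrix MatrixGroups

variable {F : Type*} [Field F] {n : ℕ} {q : ℕ} [Fintype F] {H : Subgroup (GL (Fin n) F)}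

theorem two_pow_q (hF : Fintype.card F = q ^ 2) : (2 : F) ^ q = 2 := by
  rw [← one_add_one_eq_two, add_pow_q hF, one_pow]

/-- the product of the transvections with centers `y - e'` and `y + e'` -/
noncomputable def sg (q : ℕ) (e' : Fin n → F) (g : F) (y : Fin n → F) : GL (Fin n) F :=
  tU q (y - e') g * tU q (y + e') (-g)

theorem ap_sg (hF : Fintype.card F = q ^ 2) {y e' : Fin n → F} (hyy : ho q y y = 0) (hee : ho q e' e' = 0)
    (hy : ho q y e' = 0) (g : F) (v : Fin n → F) :
    ap (sg q e' g y) v = v - (2 * g * ho q v y) • e' - (2 * g * ho q v e') • y := by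
  have hy' : ho q e' y = 0 := ho_zero_swap hF hy
  have h1 : ho q (y - e') (y - e') = 0 := by
    rw [ho_sub_left, ho_sub_right hF, ho_sub_right hF, hyy, hee, hy, hy']
    ring
  have h2 : ho q (y + e') (y + e') = 0 := by
    rw [ho_add_left, ho_add_right hF, ho_add_right hF, hyy, hee, hy, hy']
    ring
  rw [sg, ap_mul, ap_t h2, ap_t h1]
  simp only [ho_add_left, ho_smul_left, ho_sub_right hF, ho_add_right hF, hyy, hee, hy, hy']
  generalize ho q v y = x
  generalize ho q v e' = z
  module

/-- commutators of Siegel elements are transvections -/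
theorem sg_comm (hF : Fintype.card F = q ^ 2) {y z e' : Fin n → F} (hyy : ho q y y = 0) (hzz : ho q z z = 0)
    (hee : ho q e' e' = 0) (hy : ho q y e' = 0) (hz : ho q z e' = 0) (g : F) :
    sg q e' g y * sg q e' g z =
      tU q e' ((2 * g) ^ 2 * (ho q z y - ho q y z)) * (sg q e' g z * sg q e' g y) := by
  apply gl_ext
  intro v
  have hy' : ho q e' y = 0 := ho_zero_swap hF hy
  have hz' : ho q e' z = 0 := ho_zero_swap hF hz
  rw [ap_mul, ap_mul (tU q e' _), ap_mul, ap_sg hF hzz hee hz, ap_sg hF hyy hee hy, ap_sg hF hyy hee hy,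
    ap_sg hF hzz hee hz, ap_t hee]
  simp only [ho_sub_left, ho_smul_left, hee, hy, hz, hy', hz']
  generalize ho q v z = p1
  generalize ho q v e' = p2
  generalize ho q v y = p3
  generalize ho q z y = p4
  generalize ho q y z = p5
  module

/-- **The bad case does not occur.** -/
theorem good (D : Dat q H) {a b : Fin n → F} (hab : ho q a b ≠ 0) {c d : F} (hc : c ≠ 0)
    (hd : d ≠ 0) (ha : TM q H a c) (hb : TM q H b d) : TM q H a (c * (c * d * (ho q a b * ho q b a))) := by
  by_contra hbad
  have hF := D.card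
  have two := D.two
  have hba : ho q b a ≠ 0 := ho_ne_swap hF hab
  rcases key hF D.two hab hc hd ha hb with h | ⟨hγ, h3, z, hzH, hz⟩
  · exact hbad h
  have hsmall := bad_small hF D.two hab hc hd ha hb h3 hγ hbad
  have hlamfix := lam_fix hF ha.tr hb.tr a b
  have hcenA : Cen q H a := ⟨fun h => by rw [h, ho_zero_left] at hab; exact hab rfl, c, hc, ha⟩
  have hS : ∀ y, Cen q H y → Small q H y := fun y hy => small_all D h3 hsmall hcenA hy
  have hL : ∀ {u v : Fin n → F} {s t : F}, s ≠ 0 → t ≠ 0 → TM q H u s → TM q H v t → ho q u v ≠ 0 →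
      (s * t * (ho q u v * ho q v u)) ^ 2 = 1 ∨ (s * t * (ho q u v * ho q v u)) ^ 2 = -1 := by
    intro u v s t hs ht hu hv h
    exact (hS u ⟨fun h0 => by rw [h0, ho_zero_left] at h; exact h rfl, s, hs, hu⟩).sq hF two h hs ht hu hv
  obtain ⟨e, g, hg, heH, hea, heb, heW⟩ := exists_third D hab hc hd ha hb
  have hae : ho q a e ≠ 0 := ho_ne_swap hF hea
  have hbe : ho q b e ≠ 0 := ho_ne_swap hF heb
  obtain ⟨x, hx⟩ : ∃ x : Fin n → F, x = (ho q e b / ho q a b) • a + (ho q e a / ho q b a) • b := ⟨_, rfl⟩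
  obtain ⟨e', he'⟩ : ∃ e' : Fin n → F, e' = e - x := ⟨_, rfl⟩
  have hexe : x + e' = e := by rw [he']; abel
  have hxa : ho q x a = ho q e a := by
    rw [hx, ho_add_left, ho_smul_left, ho_smul_left, ha.iso]
    field_simp
    ring
  have hxb : ho q x b = ho q e b := by
    rw [hx, ho_add_left, ho_smul_left, ho_smul_left, hb.iso]
    field_simp
    ring
  have he'a : ho q e' a = 0 := by rw [he', ho_sub_left, hxa, sub_self]
  have he'b : ho q e' b = 0 := by rw [he', ho_sub_left, hxb, sub_self]
  have hae' : ho q a e' = 0 := ho_zero_swap hF he'a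
  have hbe' : ho q b e' = 0 := ho_zero_swap hF he'b
  have hxe' : ho q x e' = 0 := by
    rw [hx, ho_add_left, ho_smul_left, ho_smul_left, hae', hbe']
    ring
  have he'x : ho q e' x = 0 := ho_zero_swap hF hxe'
  have he'0 : e' ≠ 0 := by
    intro h0
    apply heW
    rw [← hexe, h0, add_zero, hx]
    exact Submodule.add_mem _ (Submodule.smul_mem _ _ (Submodule.subset_span (by simp)))
      (Submodule.smul_mem _ _ (Submodule.subset_span (by simp)))
  have hax : ho q a x = ho q a e := by rw [ho_swap hF x a, hxa, ← ho_swap hF]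
  have hbx : ho q b x = ho q b e := by rw [ho_swap hF x b, hxb, ← ho_swap hF]
  have hee' : ho q e' e' = - ho q x x := by
    have h1 : ho q (x + e') (x + e') = 0 := by rw [hexe]; exact heH.iso
    rw [ho_add_left, ho_add_right hF, ho_add_right hF, hxe', he'x] at h1
    linear_combination h1
  have hxx : ho q x x = ho q e b / ho q a b * ho q a e + ho q e a / ho q b a * ho q b e := by
    conv_lhs => rw [hx, ho_add_left, ho_smul_left, ho_smul_left]
    rw [← hx, hax, hbx]
  -- the reflected centre
  have hm1 : (-1 : F) * (-1) ^ q = 1 := by rw [neg_pow_q hF, one_pow]; ring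
  have hxm : TM q H (x - e') g := by
    have h1 := D.conj hzH heH
    have h2 : ap z e = (-1 : F) • (x - e') := by
      rw [hz, he', hx]
      module
    rw [h2, TM.smul_iff hF (neg_ne_zero.2 one_ne_zero), hm1, one_mul] at h1
    exact h1
  have hxp : TM q H (x + e') g := by rw [hexe]; exact heH
  have hte : ap (tU q a c) e' = e' := by rw [ap_t ha.iso, he'a, mul_zero, zero_smul, add_zero]
  have htf : ap (tU q b d) e' = e' := by rw [ap_t hb.iso, he'b, mul_zero, zero_smul, add_zero]
  have hcq : c ^ q = -c := eq_neg_of_add_eq_zero_right ha.tr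
  have hdq : d ^ q = -d := eq_neg_of_add_eq_zero_right hb.tr
  have hgq : (2 * g) ^ q = -(2 * g) := by
    rw [mul_pow, two_pow_q hF, eq_neg_of_add_eq_zero_right heH.tr]
    ring
  have hxz1 : ∀ u : Fin n → F, ho q u (ap (tU q a c) x) = ho q u x - c * ho q a e * ho q u a := by
    intro u
    rw [ap_t ha.iso, ho_add_right hF, ho_smul_right, mul_pow, hcq, hxa, ← ho_swap hF e a]
    ring
  have hxz2 : ∀ u : Fin n → F, ho q (ap (tU q a c) x) u = ho q x u + c * ho q e a * ho q a u := by
    intro u
    rw [ap_t ha.iso, ho_add_left, ho_smul_left, hxa]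
  set ν := ho q x x with hν
  have hνq : ν ^ q = ν := (ho_swap hF x x).symm
  by_cases hν0 : ν = 0
  · -- `x` isotropic
    rw [hν0, neg_zero] at hee'
    let X : (Fin n → F) → Prop := fun y => ho q y y = 0 ∧ ho q y e' = 0 ∧ TM q H (y + e') g ∧ TM q H (y - e') g
    have hXx : X x := ⟨hν0, hxe', hxp, hxm⟩
    have hXa : ∀ y, X y → X (ap (tU q a c) y) := by
      rintro y ⟨h1, h2, h4, h5⟩
      refine ⟨?_, ?_, ?_, ?_⟩
      · rw [D.le _ ha.mem, h1]
      · rw [← hte, D.le _ ha.mem, h2]
      · have := D.conj ha.mem h4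
        rwa [ap_add, hte] at this
      · have := D.conj ha.mem h5
        rwa [ap_sub, hte] at this
    have hXb : ∀ y, X y → X (ap (tU q b d) y) := by
      rintro y ⟨h1, h2, h4, h5⟩
      refine ⟨?_, ?_, ?_, ?_⟩
      · rw [D.le _ hb.mem, h1]
      · rw [← htf, D.le _ hb.mem, h2]
      · have := D.conj hb.mem h4
        rwa [ap_add, htf] at this
      · have := D.conj hb.mem h5
        rwa [ap_sub, htf] at this
    have hXX : ∀ y z, X y → X z → TM q H e' ((2 * g) ^ 2 * (ho q z y - ho q y z)) := by
      rintro y z ⟨h0, h1, h2, h4⟩ ⟨h5, h6, h7, h9⟩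
      have h8 := sg_comm hF h0 h5 hee' h1 h6 g
      have hy : sg q e' g y ∈ H := H.mul_mem h4.mem (h2.neg hF).mem
      have hz : sg q e' g z ∈ H := H.mul_mem h9.mem (h7.neg hF).mem
      refine ⟨hee', ?_, ?_⟩
      · rw [mul_pow _ _ q, ← pow_mul, mul_comm 2 q, pow_mul, hgq, sub_pow_q hF, ← ho_swap hF, ← ho_swap hF]
        ring
      · have h10 : tU q e' ((2 * g) ^ 2 * (ho q z y - ho q y z)) =
            sg q e' g y * sg q e' g z * (sg q e' g z * sg q e' g y)⁻¹ := by
          rw [h8, mul_inv_cancel_right]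
        rw [h10]
        exact H.mul_mem (H.mul_mem hy hz) (H.inv_mem (H.mul_mem hz hy))
    set α := ho q e a with hα
    set α' := ho q a e with hα'
    set β := ho q e b with hβ
    set β' := ho q b e with hβ'
    set φ := ho q a b with hφ
    set ψ := ho q b a with hψ
    have hrel : α * φ * β' = - (α' * ψ * β) := by
      have h1 : β / φ * α' + α / ψ * β' = 0 := by rw [← hxx]; exact hν0
      field_simp at h1
      linear_combination h1
    set κ : F := (2 * g) ^ 2 * 2 with hκ
    have hκ0 : κ ≠ 0 := mul_ne_zero (pow_ne_zero 2 (mul_ne_zero two hg)) two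
    -- three elements
    have m1 : TM q H e' (κ * (c * (α * α'))) := by
      have h1 := hXX x _ hXx (hXa x hXx)
      rw [hxz1, hxz2, hax, hxa] at h1
      have e1 : (2 * g) ^ 2 * (ho q x x + c * α * α' - (ho q x x - c * α' * α)) = κ * (c * (α * α')) := by
        rw [hκ]; ring
      rwa [e1] at h1
    have m2 : TM q H e' (κ * (d * (β * β'))) := by
      have h1 := hXX x _ hXx (hXb x hXx)
      rw [ap_t hb.iso, ho_add_left, ho_smul_left, ho_add_right hF, ho_smul_right, mul_pow _ _ q, hdq,
        ← ho_swap hF x b, hbx, hxb] at h1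
      have e1 : (2 * g) ^ 2 * (ho q x x + d * β * β' - (ho q x x + -d * β' * β)) = κ * (d * (β * β')) := by
        rw [hκ]; ring
      rwa [e1] at h1
    have m3 : TM q H e' (κ * (c * d * (α * φ * β'))) := by
      have h1 := hXX x _ hXx (hXb _ (hXa x hXx))
      rw [ap_t hb.iso (ap (tU q a c) x), ho_add_left, ho_smul_left, ho_add_right hF, ho_smul_right, mul_pow _ _ q, hdq,
        ← ho_swap hF _ b, hxz1, hxz1, hxz2, hxz2, hxb, hax, hxa, hbx] at h1
      have h2 := (h1.sub hF m1).sub hF m2
      have e1 : (2 * g) ^ 2 * (ho q x x + c * α * α' + d * (β + c * α * φ) * β' -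
          (ho q x x - c * α' * α + -d * (β' - c * α' * ψ) * β)) -
          κ * (c * (α * α')) - κ * (d * (β * β')) = κ * (c * d * (α * φ * β')) := by
        rw [hκ]
        linear_combination ((2 * g) ^ 2 * (c * d)) * (-hrel)
      rwa [e1] at h2
    have hn1 : κ * (c * (α * α')) ≠ 0 := mul_ne_zero hκ0 (mul_ne_zero hc (mul_ne_zero hea hae))
    have hn2 : κ * (d * (β * β')) ≠ 0 := mul_ne_zero hκ0 (mul_ne_zero hd (mul_ne_zero heb hbe))
    have hn3 : κ * (c * d * (α * φ * β')) ≠ 0 :=
      mul_ne_zero hκ0 (mul_ne_zero (mul_ne_zero hc hd) (mul_ne_zero (mul_ne_zero hea hab) hbe))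
    obtain ⟨w, hw⟩ := hS e' ⟨he'0, _, hn1, m1⟩
    have s1 : (κ * (c * (α * α'))) ^ 2 = w ^ 2 := by
      rcases hw _ m1 with h | h | h
      · exact absurd h hn1
      · rw [h]
      · rw [h, neg_sq]
    have s2 : (κ * (d * (β * β'))) ^ 2 = w ^ 2 := by
      rcases hw _ m2 with h | h | h
      · exact absurd h hn2
      · rw [h]
      · rw [h, neg_sq]
    have s3 : (κ * (c * d * (α * φ * β'))) ^ 2 = w ^ 2 := by
      rcases hw _ m3 with h | h | h
      · exact absurd h hn3
      · rw [h]
      · rw [h, neg_sq]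
    have hw0 : w ≠ 0 := by
      rintro rfl
      rw [zero_pow two_ne_zero] at s1
      exact pow_ne_zero 2 hn1 s1
    have e0 : (κ * (c * d * (α * φ * β'))) ^ 2 =
        -((κ * (c * (α * α'))) * (κ * (d * (β * β'))) * (c * d * (φ * ψ))) := by
      linear_combination (κ ^ 2 * (c * d) ^ 2 * (α * φ * β')) * hrel
    have e1 : (κ * (c * d * (α * φ * β'))) ^ 2 * (κ * (c * d * (α * φ * β'))) ^ 2 =
        (κ * (c * (α * α'))) ^ 2 * (κ * (d * (β * β'))) ^ 2 * (c * d * (φ * ψ)) ^ 2 := by
      rw [e0]
      ring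
    rw [s1, s2, s3, hγ] at e1
    have e2 : 2 * (w ^ 2 * w ^ 2) = 0 := by linear_combination e1
    rcases mul_eq_zero.1 e2 with h | h
    · exact D.two h
    · rcases mul_eq_zero.1 h with h | h <;> exact pow_ne_zero 2 hw0 h
  · -- `x` not isotropic
    set N := ho q a e * ho q e a with hN
    have hN0 : N ≠ 0 := mul_ne_zero hae hea
    -- the three invariants
    have i1 : (c * g * N) ^ 2 = 1 ∨ (c * g * N) ^ 2 = -1 := hL hc hg ha heH hae
    have hpm : ho q (x + e') (x - e') = 2 * ν := by
      rw [ho_add_left, ho_sub_right hF, ho_sub_right hF, hxe', he'x, hee']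
      ring
    have hmp : ho q (x - e') (x + e') = 2 * ν := by
      rw [ho_sub_left, ho_add_right hF, ho_add_right hF, hxe', he'x, hee']
      ring
    have i2 := hL hg hg hxp hxm (by rw [hpm]; exact mul_ne_zero two hν0)
    rw [hpm, hmp] at i2
    have htm : TM q H (ap (tU q a c) x - e') g := by
      have := D.conj ha.mem hxm
      rwa [ap_sub, hte] at this
    have hpt : ho q (x + e') (ap (tU q a c) x - e') = 2 * ν - c * N := by
      rw [ho_add_left, ho_sub_right hF, ho_sub_right hF, hxz1, hxz1, hxe', he'x, hee', he'a, hxa, hN]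
      ring
    have htp : ho q (ap (tU q a c) x - e') (x + e') = 2 * ν + c * N := by
      rw [ho_sub_left, ho_add_right hF, ho_add_right hF, hxz2, hxz2, hxe', he'x, hee', hae', hax, hN]
      ring
    have i3 : g * g * ((2 * ν - c * N) * (2 * ν + c * N)) = 0 ∨
        (g * g * ((2 * ν - c * N) * (2 * ν + c * N))) ^ 2 = 1 ∨
        (g * g * ((2 * ν - c * N) * (2 * ν + c * N))) ^ 2 = -1 := by
      by_cases h0 : 2 * ν - c * N = 0
      · left
        rw [h0]
        ring
      · right
        have := hL hg hg hxp htm (by rw [hpt]; exact h0)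
        rwa [hpt, htp] at this
    have e3 : g * g * ((2 * ν - c * N) * (2 * ν + c * N)) = g * g * (2 * ν * (2 * ν)) - (c * g * N) ^ 2 := by ring
    rw [e3] at i3
    set R := g * g * (2 * ν * (2 * ν)) with hR
    set M := (c * g * N) ^ 2 with hM
    have five : (5 : F) ≠ 0 := fun h => two (by linear_combination h - h3)
    have hM1 : M ^ 2 = 1 := by
      rcases i1 with h | h
      · rw [h, one_pow]
      · rw [h, neg_one_sq]
    have hR1 : R ^ 2 = 1 := by
      rcases i2 with h | h
      · exact h
      · exfalso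
        have h5 : ∀ ε : F, ε ^ 2 = 1 → (R - M) ^ 2 = ε → False := by
          intro ε hε h5
          have h6 : -2 * R * M = ε := by linear_combination h5 - h - hM1
          have h7 : (-2 * R * M) ^ 2 = 1 := by rw [h6, hε]
          exact five (by linear_combination 4 * M ^ 2 * h - 4 * hM1 - h7)
        rcases i3 with h4 | h4 | h4
        · exact two (by linear_combination h - (R + M) * h4 - hM1)
        · exact h5 1 (one_pow 2) h4
        · exact h5 (-1) neg_one_sq h4
    have hfin : ∀ r : F, r ^ q = r → (2 * g * ν) ^ 2 = r ^ 2 → False := by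
      intro r hr h
      have h4 : (2 * g * ν - r) * (2 * g * ν + r) = 0 := by linear_combination h
      have h5 : (2 * g * ν) ^ q = 2 * g * ν := by
        rcases mul_eq_zero.1 h4 with h6 | h6
        · rw [sub_eq_zero.1 h6, hr]
        · rw [eq_neg_of_add_eq_zero_left h6, neg_pow_q hF, hr]
      rw [mul_pow, hgq, hνq] at h5
      have h6 : 2 * (2 * g * ν) = 0 := by linear_combination -h5
      exact mul_ne_zero two (mul_ne_zero (mul_ne_zero two hg) hν0) h6
    have h4 : (R - 1) * (R + 1) = 0 := by linear_combination hR1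
    rcases mul_eq_zero.1 h4 with h5 | h5
    · exact hfin 1 (one_pow q) (by linear_combination h5)
    · exact hfin _ hlamfix (by rw [hγ]; linear_combination h5)

end Cfsg.Agent.H976.OddM.UnC
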