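import Cfsg.Agent.H453.OddM.UnA
import Cfsg.Agent.S0801

/-!
# Irreducible groups generated by unitary transvections, odd characteristic: two transvections
-/

set_option autoImplicit false
set_option linter.unusedSectionVars false

namespace Cfsg.Agent.H976.OddM.UnC

open Cfsg Module Cfsg.Agent.LieClassical.HermBasic Cfsg.Agent.ClassicalGeometry.UnitTransv Cfsg.Agent.H453.OddM.Un
open scoped Matrix MatrixGroups

variable {F : Type*} [Field F] {n : ℕ} {q : ℕ}

theorem ho_add_left (u u' v : Fin n → F) : ho q (u + u') v = ho q u v + ho q u' v := herm_add_left u u' v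

theorem ho_sub_left (u u' v : Fin n → F) : ho q (u - u') v = ho q u v - ho q u' v := herm_sub_left u u' v

theorem ho_smul_left (c : F) (u v : Fin n → F) : ho q (c • u) v = c * ho q u v := herm_smul_left c u v

theorem ho_smul_right (c : F) (u v : Fin n → F) : ho q u (c • v) = c ^ q * ho q u v := herm_smul_right c u v

theorem ho_zero_left (v : Fin n → F) : ho q (0 : Fin n → F) v = 0 := herm_zero_left v

/-! ### The plane homomorphism -/

/-- the matrix of the map acting on the plane `⟨a, b⟩` by `A` and trivially on its orthogonal complement -/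
noncomputable def th (q : ℕ) (a b : Fin n → F) (A : Matrix (Fin 2) (Fin 2) F) : Matrix (Fin n) (Fin n) F :=
  LinearMap.toMatrix' (
    { toFun := fun v => v +
        ((A 0 0 - 1) * (ho q v b / ho q a b) + A 0 1 * (ho q v a / ho q b a)) • a +
        (A 1 0 * (ho q v b / ho q a b) + (A 1 1 - 1) * (ho q v a / ho q b a)) • b
      map_add' := by
        intro u v
        simp only [ho_add_left, add_div, mul_add, add_smul]
        abel
      map_smul' := by
        intro c v
        simp only [ho_smul_left, smul_add, smul_smul, RingHom.id_apply]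
        congr 2
        · congr 2
          ring
        · ring_nf } : (Fin n → F) →ₗ[F] (Fin n → F))

theorem th_mulVec (a b : Fin n → F) (A : Matrix (Fin 2) (Fin 2) F) (v : Fin n → F) :
    th q a b A *ᵥ v = v +
        ((A 0 0 - 1) * (ho q v b / ho q a b) + A 0 1 * (ho q v a / ho q b a)) • a +
        (A 1 0 * (ho q v b / ho q a b) + (A 1 1 - 1) * (ho q v a / ho q b a)) • b := by
  rw [th, LinearMap.toMatrix'_mulVec]
  rfl

theorem th_one (a b : Fin n → F) : th q a b 1 = 1 := by
  apply Matrix.ext_of_mulVec_single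
  intro i
  rw [th_mulVec, Matrix.one_mulVec]
  simp

theorem th_mul {a b : Fin n → F} (ha : ho q a a = 0) (hb : ho q b b = 0) (hab : ho q a b ≠ 0) (hba : ho q b a ≠ 0)
    (A B : Matrix (Fin 2) (Fin 2) F) : th q a b (A * B) = th q a b A * th q a b B := by
  apply Matrix.ext_of_mulVec_single
  intro i
  rw [← Matrix.mulVec_mulVec, th_mulVec, th_mulVec a b B]
  set v : Fin n → F := Pi.single i 1 with hv
  rw [th_mulVec]
  simp only [ho_add_left, ho_smul_left, ha, hb, Matrix.mul_apply, Fin.sum_univ_two]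
  have e : ∀ (x y : F) (p q r s : F), (v + x • a + y • b) + p • a + q • b = v + r • a + s • b ↔
      (x + p - r) • a + (y + q - s) • b = 0 := by
    intro x y p q r s
    constructor
    · intro h
      have h2 : (v + x • a + y • b) + p • a + q • b - (v + r • a + s • b) = 0 := sub_eq_zero.2 h
      rw [← h2]
      simp only [add_smul, sub_smul]
      abel
    · intro h
      rw [← sub_eq_zero, ← h]
      simp only [add_smul, sub_smul]
      abel
  symm
  rw [e]
  generalize ho q a b = φ at *
  generalize ho q b a = ψ at *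
  convert (by simp : (0 : F) • a + (0 : F) • b = 0) using 2
  · congr 1
    field_simp
    ring
  · congr 1
    field_simp
    ring

/-- the homomorphism from `SL₂(F)` attached to a hyperbolic plane -/
noncomputable def thHom {a b : Fin n → F} (ha : ho q a a = 0) (hb : ho q b b = 0) (hab : ho q a b ≠ 0)
    (hba : ho q b a ≠ 0) : Matrix.SpecialLinearGroup (Fin 2) F →* GL (Fin n) F where
  toFun A := ⟨th q a b A.1, th q a b (A⁻¹).1,
    by rw [← th_mul ha hb hab hba, ← Matrix.SpecialLinearGroup.coe_mul, mul_inv_cancel,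
      Matrix.SpecialLinearGroup.coe_one, th_one],
    by rw [← th_mul ha hb hab hba, ← Matrix.SpecialLinearGroup.coe_mul, inv_mul_cancel,
      Matrix.SpecialLinearGroup.coe_one, th_one]⟩
  map_one' := Units.ext (th_one a b)
  map_mul' A B := Units.ext ((congrArg (th q a b) (Matrix.SpecialLinearGroup.coe_mul A B)).trans
    (th_mul ha hb hab hba _ _))

theorem ap_thHom {a b : Fin n → F} (ha : ho q a a = 0) (hb : ho q b b = 0) (hab : ho q a b ≠ 0)
    (hba : ho q b a ≠ 0) (A : Matrix.SpecialLinearGroup (Fin 2) F)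
    (v : Fin n → F) : ap (thHom ha hb hab hba A) v = v +
        ((A.1 0 0 - 1) * (ho q v b / ho q a b) + A.1 0 1 * (ho q v a / ho q b a)) • a +
        (A.1 1 0 * (ho q v b / ho q a b) + (A.1 1 1 - 1) * (ho q v a / ho q b a)) • b := th_mulVec a b A.1 v

theorem thHom_upper {a b : Fin n → F} (ha : ho q a a = 0) (hb : ho q b b = 0) (hab : ho q a b ≠ 0)
    (hba : ho q b a ≠ 0) {A : Matrix.SpecialLinearGroup (Fin 2) F} {μ : F}
    (hA : A.1 = !![1, μ; 0, 1]) : thHom ha hb hab hba A = tU q a (μ / ho q b a) := by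
  apply gl_ext
  intro v
  rw [ap_thHom, ap_t ha, hA]
  simp only [Matrix.of_apply, Matrix.cons_val', Matrix.cons_val_zero, Matrix.cons_val_one, Matrix.cons_val_fin_one,
    sub_self, zero_mul, zero_add, add_zero, zero_smul]
  congr 2
  ring

theorem thHom_lower {a b : Fin n → F} (ha : ho q a a = 0) (hb : ho q b b = 0) (hab : ho q a b ≠ 0)
    (hba : ho q b a ≠ 0) {A : Matrix.SpecialLinearGroup (Fin 2) F} {ν : F}
    (hA : A.1 = !![1, 0; ν, 1]) : thHom ha hb hab hba A = tU q b (ν / ho q a b) := by
  apply gl_ext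
  intro v
  rw [ap_thHom, ap_t hb, hA]
  simp only [Matrix.of_apply, Matrix.cons_val', Matrix.cons_val_zero, Matrix.cons_val_one, Matrix.cons_val_fin_one,
    sub_self, zero_mul, add_zero, zero_smul]
  congr 2
  ring

/-- an involution of `SL₂(k)` is `-1` -/
theorem involution_eq {k : Type*} [Field k] (h2 : (2 : k) ≠ 0) {w : Matrix.SpecialLinearGroup (Fin 2) k}
    (hw : w ^ 2 = 1) (hw1 : w ≠ 1) : w.1 = !![-1, 0; 0, -1] := by
  have hinv : w⁻¹ = w := by
    rw [inv_eq_iff_mul_eq_one, ← pow_two, hw]
  have h1 := congrArg Subtype.val hinv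
  rw [Matrix.SpecialLinearGroup.coe_inv, Matrix.adjugate_fin_two] at h1
  have hdet := w.2
  rw [Matrix.det_fin_two] at hdet
  have e00 := congrFun (congrFun h1 0) 0
  have e01 := congrFun (congrFun h1 0) 1
  have e10 := congrFun (congrFun h1 1) 0
  simp only [Matrix.of_apply, Matrix.cons_val', Matrix.cons_val_zero, Matrix.cons_val_one,
    Matrix.cons_val_fin_one] at e00 e01 e10
  have h01 : w.1 0 1 = 0 := by
    have : (2 : k) * w.1 0 1 = 0 := by linear_combination -e01
    exact (mul_eq_zero.1 this).resolve_left h2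
  have h10 : w.1 1 0 = 0 := by
    have : (2 : k) * w.1 1 0 = 0 := by linear_combination -e10
    exact (mul_eq_zero.1 this).resolve_left h2
  rw [h01, e00] at hdet
  have h3 : (w.1 0 0 - 1) * (w.1 0 0 + 1) = 0 := by linear_combination hdet
  rcases mul_eq_zero.1 h3 with h4 | h4
  · exfalso
    apply hw1
    apply Subtype.ext
    rw [Matrix.SpecialLinearGroup.coe_one, Matrix.eta_fin_two w.1, e00, h01, h10, sub_eq_zero.1 h4,
      Matrix.one_fin_two]
  · rw [Matrix.eta_fin_two w.1, e00, h01, h10, eq_neg_of_add_eq_zero_left h4]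

theorem closure_singleton_top {lam : F} (x : Subfield.closure ({lam} : Set F)) (hx : (x : F) = lam) :
    Subfield.closure ({x} : Set (Subfield.closure ({lam} : Set F))) = ⊤ := by
  rw [eq_top_iff]
  rintro ⟨y, hy⟩ -
  have h1 : Subfield.closure ({lam} : Set F) ≤
      (Subfield.closure ({x} : Set (Subfield.closure ({lam} : Set F)))).map
        (Subfield.closure ({lam} : Set F)).subtype := by
    rw [Subfield.closure_le]
    rintro _ rfl
    exact ⟨x, Subfield.subset_closure rfl, hx⟩
  obtain ⟨z, hz, hzy⟩ := h1 hy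
  have : z = ⟨y, hy⟩ := Subtype.ext hzy
  rwa [← this]

/-- the invariant of two transvections lies in the fixed field -/
theorem lam_fix [Fintype F] (hF : Fintype.card F = q ^ 2) {c d : F} (hc : c + c ^ q = 0) (hd : d + d ^ q = 0)
    (a b : Fin n → F) : (c * d * (ho q a b * ho q b a)) ^ q = c * d * (ho q a b * ho q b a) := by
  rw [mul_pow, mul_pow, ho_swap hF a b, norm_pow_q hF, eq_neg_of_add_eq_zero_right hc,
    eq_neg_of_add_eq_zero_right hd, neg_mul_neg]

/-- **Two transvections.** -/
theorem key [Fintype F] (hF : Fintype.card F = q ^ 2) (h2 : (2 : F) ≠ 0) {H : Subgroup (GL (Fin n) F)}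
    {a b : Fin n → F} (hab : ho q a b ≠ 0) {c d : F} (hc : c ≠ 0) (hd : d ≠ 0) (ha : TM q H a c) (hb : TM q H b d) :
    TM q H a (c * (c * d * (ho q a b * ho q b a))) ∨
      ((c * d * (ho q a b * ho q b a)) ^ 2 = -1 ∧ (3 : F) = 0 ∧
        ∃ z ∈ H, ∀ v, ap z v = v - (2 * (ho q v b / ho q a b)) • a - (2 * (ho q v a / ho q b a)) • b) := by
  classical
  have hba : ho q b a ≠ 0 := ho_ne_swap hF hab
  have hfix := lam_fix hF ha.tr hb.tr a b
  set φ := ho q a b with hφ
  set ψ := ho q b a with hψ
  set γ := c * d * (φ * ψ) with hγ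
  have hγ0 : γ ≠ 0 := mul_ne_zero (mul_ne_zero hc hd) (mul_ne_zero hab hba)
  have hdφ : d * φ ≠ 0 := mul_ne_zero hd hab
  set s : F := (d * φ)⁻¹ with hs
  have hs0 : s ≠ 0 := inv_ne_zero hdφ
  have hsq0 : s ^ q ≠ 0 := pow_ne_zero q hs0
  have hφ1 : ho q (s • a) b = d⁻¹ := by
    rw [ho_smul_left, hs, ← hφ]
    field_simp
  have hψ1 : ho q b (s • a) = s ^ q * ψ := by rw [ho_smul_right]
  have hab1 : ho q (s • a) b ≠ 0 := by
    rw [hφ1]
    exact inv_ne_zero hd
  have hba1 : ho q b (s • a) ≠ 0 := by
    rw [hψ1]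
    exact mul_ne_zero hsq0 hba
  have haa1 : ho q (s • a) (s • a) = 0 := ho_smul ha.iso s
  have hbb := hb.iso
  set k := Subfield.closure ({γ} : Set F) with hk
  have hlam : γ ∈ k := Subfield.subset_closure rfl
  have hfink : Finite k := inferInstance
  have : Fintype k := Fintype.ofFinite k
  let Ψ : Matrix.SpecialLinearGroup (Fin 2) k →* GL (Fin n) F :=
    (thHom haa1 hbb hab1 hba1).comp (Matrix.SpecialLinearGroup.map k.subtype)
  have hmap : ∀ A : Matrix.SpecialLinearGroup (Fin 2) k, ∀ p q r t : k, A.1 = !![p, q; r, t] →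
      (Matrix.SpecialLinearGroup.map k.subtype A).1 = !![(p : F), q; r, t] := by
    intro A p q r t hA
    ext i j
    rw [Matrix.SpecialLinearGroup.map_apply_coe, RingHom.mapMatrix_apply, Matrix.map_apply, hA]
    fin_cases i <;> fin_cases j <;> rfl
  have hup : ∀ A : Matrix.SpecialLinearGroup (Fin 2) k, ∀ μ : k, A.1 = !![1, μ; 0, 1] →
      Ψ A = tU q a ((μ : F) / (d * (φ * ψ))) := by
    intro A μ hA
    have h1 := thHom_upper haa1 hbb hab1 hba1 (A := Matrix.SpecialLinearGroup.map k.subtype A) (μ := (μ : F)) (by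
      rw [hmap A 1 μ 0 1 hA]
      rfl)
    change thHom haa1 hbb hab1 hba1 (Matrix.SpecialLinearGroup.map k.subtype A) = _
    rw [h1, t_smul ha.iso, hψ1]
    congr 1
    have : s * (d * φ) = 1 := by rw [hs]; exact inv_mul_cancel₀ hdφ
    field_simp
    linear_combination (μ : F) * this
  have hlo : ∀ A : Matrix.SpecialLinearGroup (Fin 2) k, A.1 = !![1, 0; 1, 1] → Ψ A = tU q b d := by
    intro A hA
    have h1 := thHom_lower haa1 hbb hab1 hba1 (A := Matrix.SpecialLinearGroup.map k.subtype A) (ν := 1) (by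
      rw [hmap A 1 0 1 1 hA]
      rfl)
    change thHom haa1 hbb hab1 hba1 (Matrix.SpecialLinearGroup.map k.subtype A) = _
    rw [h1, hφ1]
    congr 1
    rw [one_div, inv_inv]
  set lam : k := ⟨γ, hlam⟩ with hlamd
  have h2k : (2 : k) ≠ 0 := by
    intro h
    apply h2
    have := congrArg k.subtype h
    rwa [map_ofNat, map_zero] at this
  have hle : Subgroup.closure {g : Matrix.SpecialLinearGroup (Fin 2) k |
      (g : Matrix (Fin 2) (Fin 2) k) = !![1, 0; 1, 1] ∨ (g : Matrix (Fin 2) (Fin 2) k) = !![1, lam; 0, 1]} ≤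
      H.comap Ψ := by
    rw [Subgroup.closure_le]
    rintro g (hg | hg)
    · rw [SetLike.mem_coe, Subgroup.mem_comap, hlo g hg]
      exact hb.mem
    · rw [SetLike.mem_coe, Subgroup.mem_comap, hup g lam hg]
      have : (lam : F) / (d * (φ * ψ)) = c := by
        change γ / (d * (φ * ψ)) = c
        rw [hγ]
        field_simp
      rw [this]
      exact ha.mem
  rcases Cfsg.Agent.S0801.result h2k lam (fun h => hγ0 (by
      have := congrArg (fun x : k => (x : F)) h
      simpa [hlamd] using this)) (closure_singleton_top lam rfl) with ⟨htop, -⟩ | ⟨h9, hl2, h120⟩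
  · left
    let A : Matrix.SpecialLinearGroup (Fin 2) k := ⟨!![1, lam ^ 2; 0, 1], by
      rw [Matrix.det_fin_two_of]; ring⟩
    have h1 : A ∈ H.comap Ψ := hle (by rw [htop]; trivial)
    rw [Subgroup.mem_comap, hup A (lam ^ 2) rfl] at h1
    have h3 : ((lam ^ 2 : k) : F) / (d * (φ * ψ)) = c * γ := by
      push_cast
      change (γ ^ 2) / (d * (φ * ψ)) = c * γ
      rw [pow_two γ]
      nth_rewrite 1 [hγ]
      field_simp
    rw [h3] at h1
    refine ⟨ha.iso, ?_, h1⟩
    rw [mul_comm c γ]
    exact trace_mul hF hfix ha.tr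
  · right
    have h3 : (3 : F) = 0 := by
      obtain ⟨p, hp⟩ := CharP.exists k
      obtain ⟨n, hpp, hn⟩ := FiniteField.card k p
      rw [h9] at hn
      have h4 : p ∣ 9 := by
        rw [hn]
        exact dvd_pow_self p n.pos.ne'
      have h5 : p = 3 := by
        have h6 : p ∣ 3 ^ 2 := by norm_num; exact h4
        exact (Nat.prime_dvd_prime_iff_eq hpp Nat.prime_three).1 (hpp.dvd_of_dvd_pow h6)
      subst h5
      have h7 : ((3 : ℕ) : k) = 0 := CharP.cast_eq_zero k 3
      have := congrArg k.subtype h7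
      rw [map_natCast, map_zero] at this
      exact_mod_cast this
    refine ⟨?_, h3, ?_⟩
    · have := congrArg k.subtype hl2
      rw [map_pow, map_neg, map_one] at this
      exact this
    · have : Fact (Nat.Prime 2) := ⟨Nat.prime_two⟩
      obtain ⟨⟨w, hwc⟩, hw⟩ := exists_prime_orderOf_dvd_card' 2 (by rw [h120]; norm_num :
        2 ∣ Nat.card ↥(Subgroup.closure {g : Matrix.SpecialLinearGroup (Fin 2) k |
          (g : Matrix (Fin 2) (Fin 2) k) = !![1, 0; 1, 1] ∨ (g : Matrix (Fin 2) (Fin 2) k) = !![1, lam; 0, 1]}))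
      rw [Subgroup.orderOf_mk] at hw
      have hw2 : w ^ 2 = 1 := orderOf_dvd_iff_pow_eq_one.1 (by rw [hw])
      have hw1 : w ≠ 1 := by
        rintro rfl
        rw [orderOf_one] at hw
        omega
      have hwm := involution_eq h2k hw2 hw1
      refine ⟨Ψ w, hle hwc, fun v => ?_⟩
      change ap (thHom haa1 hbb hab1 hba1 (Matrix.SpecialLinearGroup.map k.subtype w)) v = _
      rw [ap_thHom, hmap w (-1) 0 0 (-1) hwm, ho_smul_left, ho_smul_right, ho_smul_right, ← hφ, ← hψ]
      simp only [Matrix.of_apply, Matrix.cons_val', Matrix.cons_val_zero, Matrix.cons_val_one,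
        Matrix.cons_val_fin_one, Subfield.coe_neg, Subfield.coe_one, Subfield.coe_zero, zero_mul, add_zero,
        zero_add, smul_smul]
      have hsub : v - (2 * (ho q v b / φ)) • a - (2 * (ho q v a / ψ)) • b =
          v + (-(2 * (ho q v b / φ))) • a + (-(2 * (ho q v a / ψ))) • b := by
        rw [neg_smul, neg_smul, sub_eq_add_neg, sub_eq_add_neg]
      rw [hsub]
      congr 2
      · congr 1
        field_simp
        ring
      · field_simp
        ring

end Cfsg.Agent.H976.OddM.UnC
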