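import Cfsg.Agent.H453.OddM.UnB
import Cfsg.Agent.H976.OddM.UnC1

/-!
# Irreducible groups generated by unitary transvections, odd characteristic: centres with few transvections
-/

set_option autoImplicit false
set_option linter.unusedSectionVars false

namespace Cfsg.Agent.H976.OddM.UnC

open Cfsg Module Cfsg.Agent.LieClassical.HermBasic Cfsg.Agent.ClassicalGeometry.UnitTransv
open Cfsg.Agent.H453.OddM.Un hiding ho_add_left ho_sub_left ho_smul_left ho_smul_right ho_zero_left
open scoped Matrix MatrixGroups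

variable {F : Type*} [Field F] {n : ℕ} {q : ℕ}

/-- at most one transvection group element up to sign -/
def Small (q : ℕ) (H : Subgroup (GL (Fin n) F)) (a : Fin n → F) : Prop :=
  ∃ w : F, ∀ c, TM q H a c → c = 0 ∨ c = w ∨ c = -w

variable [Fintype F] {H : Subgroup (GL (Fin n) F)}

/-- the invariant of two transvections, one with a small centre -/
theorem Small.sq (hF : Fintype.card F = q ^ 2) (h2 : (2 : F) ≠ 0) {x y : Fin n → F} (hx : Small q H x)
    (hφ : ho q x y ≠ 0) {c d : F} (hc : c ≠ 0) (hd : d ≠ 0) (hcH : TM q H x c) (hdH : TM q H y d) :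
    (c * d * (ho q x y * ho q y x)) ^ 2 = 1 ∨ (c * d * (ho q x y * ho q y x)) ^ 2 = -1 := by
  obtain ⟨w, hw⟩ := hx
  have hφ' : ho q y x ≠ 0 := ho_ne_swap hF hφ
  rcases key hF h2 hφ hc hd hcH hdH with h | ⟨h, -⟩
  · left
    have hγ0 : c * d * (ho q x y * ho q y x) ≠ 0 := mul_ne_zero (mul_ne_zero hc hd) (mul_ne_zero hφ hφ')
    have h1 : (c * (c * d * (ho q x y * ho q y x))) ^ 2 = c ^ 2 := by
      have e1 : c ^ 2 = w ^ 2 := by
        rcases hw _ hcH with h1 | h1 | h1
        · exact absurd h1 hc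
        · rw [h1]
        · rw [h1, neg_sq]
      rcases hw _ h with h1 | h1 | h1
      · exact absurd h1 (mul_ne_zero hc hγ0)
      · rw [h1, e1]
      · rw [h1, e1, neg_sq]
    have h3 : c ^ 2 * ((c * d * (ho q x y * ho q y x)) ^ 2 - 1) = 0 := by linear_combination h1
    exact sub_eq_zero.1 ((mul_eq_zero.1 h3).resolve_left (pow_ne_zero 2 hc))
  · exact Or.inr h

theorem small_adj (hF : Fintype.card F = q ^ 2) (two : (2 : F) ≠ 0) (h3 : (3 : F) = 0) {x y : Fin n → F}
    (hxy : Adj q H x y) (hx : Small q H x) : Small q H y := by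
  obtain ⟨⟨hx0, c0, hc0, hc0H⟩, ⟨hy0, d1, hd1, hd1H⟩, hφ⟩ := hxy
  have hsq : ∀ d, d ≠ 0 → TM q H y d → (c0 * d * (ho q x y * ho q y x)) ^ 2 = 1 ∨
      (c0 * d * (ho q x y * ho q y x)) ^ 2 = -1 := fun d hd hdH => hx.sq hF two hφ hc0 hd hc0H hdH
  refine ⟨d1, fun d hdH => ?_⟩
  by_contra hcon
  push Not at hcon
  obtain ⟨hd0, hd1', hd2'⟩ := hcon
  have e1 := hsq d1 hd1 hd1H
  have e2 := hsq d hd0 hdH
  have e3 := hsq (d1 + d) (fun h => hd2' (by linear_combination h)) (hd1H.add hF hdH)
  have e4 := hsq (d1 - d) (fun h => hd1' (by linear_combination -h)) (hd1H.sub hF hdH)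
  set φ := ho q x y * ho q y x with hφd
  set g1 := c0 * d1 * φ with hg1
  set g2 := c0 * d * φ with hg2
  have h5 : c0 * (d1 + d) * φ = g1 + g2 := by rw [hg1, hg2]; ring
  have h6 : c0 * (d1 - d) * φ = g1 - g2 := by rw [hg1, hg2]; ring
  rw [h5] at e3
  rw [h6] at e4
  have one : (1 : F) ≠ 0 := one_ne_zero
  have h7 : (g1 + g2) ^ 2 + (g1 - g2) ^ 2 = 2 * g1 ^ 2 + 2 * g2 ^ 2 := by ring
  have h8 : (g1 + g2) ^ 2 * (g1 - g2) ^ 2 = (g1 ^ 2 - g2 ^ 2) ^ 2 := by ring
  rcases e1 with e1 | e1 <;> rcases e2 with e2 | e2 <;> rcases e3 with e3 | e3 <;> rcases e4 with e4 | e4 <;>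
    rw [e1, e2, e3, e4] at h7 h8
  all_goals first
    | exact one (by linear_combination h8)
    | exact one (by linear_combination -h8)
    | exact one (by linear_combination h8 + 2 * h3)
    | exact two (by linear_combination h7)
    | exact two (by linear_combination -h7)

theorem small_all (D : Dat q H) (h3 : (3 : F) = 0) {x y : Fin n → F} (hx : Small q H x)
    (hxc : Cen q H x) (hyc : Cen q H y) : Small q H y := by
  have h := D.connected hxc hyc
  induction h with
  | refl => exact hx
  | tail _ hyz ih => exact small_adj D.card D.two h3 hyz (ih hyz.1)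

/-- in a bad pair the transvection group is small -/
theorem bad_small (hF : Fintype.card F = q ^ 2) (two : (2 : F) ≠ 0) {a b : Fin n → F} (hab : ho q a b ≠ 0) {c d : F}
    (hc : c ≠ 0) (hd : d ≠ 0) (ha : TM q H a c) (hb : TM q H b d) (h3 : (3 : F) = 0)
    (hγ : (c * d * (ho q a b * ho q b a)) ^ 2 = -1) (hbad : ¬ TM q H a (c * (c * d * (ho q a b * ho q b a)))) :
    Small q H a := by
  have hba : ho q b a ≠ 0 := ho_ne_swap hF hab
  refine ⟨c, fun c' hc'H => ?_⟩
  by_contra hcon
  push Not at hcon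
  obtain ⟨hc0, hc1, hc2⟩ := hcon
  -- squares
  have hsq : ∀ x : F, x ≠ 0 → TM q H a x → (x * d * (ho q a b * ho q b a)) ^ 2 ≠ -1 →
      TM q H a (x * (x * d * (ho q a b * ho q b a))) := by
    intro x hx hxH h
    rcases key hF two hab hx hd hxH hb with h1 | ⟨h1, -⟩
    · exact h1
    · exact absurd h1 h
  set φ := ho q a b * ho q b a with hφ
  have hδ : d * φ ≠ 0 := mul_ne_zero hd (mul_ne_zero hab hba)
  have hfac : ∀ x : F, (x * d * φ) ^ 2 = -1 → x = c ∨ x = -c := by
    intro x hx
    have h1 : (d * φ) ^ 2 * ((x - c) * (x + c)) = 0 := by linear_combination hx - hγ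
    rcases mul_eq_zero.1 h1 with h2 | h2
    · exact absurd h2 (pow_ne_zero 2 hδ)
    · rcases mul_eq_zero.1 h2 with h4 | h4
      · exact Or.inl (sub_eq_zero.1 h4)
      · exact Or.inr (eq_neg_of_add_eq_zero_left h4)
  have e1 := hsq c' hc0 hc'H (fun h => by
    rcases hfac c' h with h | h
    · exact hc1 h
    · exact hc2 h)
  have e2 := hsq (c' + c) (fun h => hc2 (by linear_combination h)) (hc'H.add hF ha) (fun h => by
    rcases hfac _ h with h | h
    · exact hc0 (by linear_combination h)
    · exact hc1 (by linear_combination h - c * h3))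
  have e3 := hsq (c' - c) (fun h => hc1 (by linear_combination h)) (hc'H.sub hF ha) (fun h => by
    rcases hfac _ h with h | h
    · exact hc2 (by linear_combination h + c * h3)
    · exact hc0 (by linear_combination h))
  have e4 := ((e2.add hF e3).sub hF e1).sub hF e1
  apply hbad
  have e5 := e4.neg hF
  have e6 : -((c' + c) * ((c' + c) * d * φ) + (c' - c) * ((c' - c) * d * φ) -
      c' * (c' * d * φ) - c' * (c' * d * φ)) = c * (c * d * φ) := by
    linear_combination (-c * (c * d * φ)) * h3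
  rwa [e6] at e5

/-- a third center in general position to a hyperbolic plane -/
theorem exists_third (D : Dat q H) {a b : Fin n → F} (hab : ho q a b ≠ 0) {c d : F} (hc : c ≠ 0)
    (hd : d ≠ 0) (ha : TM q H a c) (hb : TM q H b d) :
    ∃ (e : Fin n → F) (g : F), g ≠ 0 ∧ TM q H e g ∧ ho q e a ≠ 0 ∧ ho q e b ≠ 0 ∧
      e ∉ Submodule.span F ({a, b} : Set (Fin n → F)) := by
  classical
  have hF := D.card
  have hba : ho q b a ≠ 0 := ho_ne_swap hF hab
  set W := Submodule.span F ({a, b} : Set (Fin n → F)) with hW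
  have haW : a ∈ W := Submodule.subset_span (by simp)
  have hbW : b ∈ W := Submodule.subset_span (by simp)
  have h1 : ∃ (e : Fin n → F) (g : F), TM q H e g ∧ ∃ v ∈ W, ap (tU q e g) v ∉ W := by
    by_contra hcon
    push Not at hcon
    rcases D.irr W hcon with h | h
    · rw [h, Submodule.mem_bot] at haW
      rw [haW, ho_zero_left] at hab
      exact hab rfl
    · have h2 : finrank F W ≤ 2 := by
        refine (finrank_span_le_card (R := F) ({a, b} : Set (Fin n → F))).trans ?_
        rw [Set.toFinset_insert, Set.toFinset_singleton]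
        exact Finset.card_le_two
      rw [h, finrank_top, Module.finrank_fintype_fun_eq_card, Fintype.card_fin] at h2
      have := D.dim
      omega
  obtain ⟨e, g, heH, v, hv, hve⟩ := h1
  rw [ap_t heH.iso] at hve
  have hg0 : g * ho q v e ≠ 0 := by
    intro h0
    rw [h0, zero_smul, add_zero] at hve
    exact hve hv
  have heW : e ∉ W := fun h => hve (W.add_mem hv (W.smul_mem _ h))
  have hg : g ≠ 0 := left_ne_zero_of_mul hg0
  have hve' : ho q v e ≠ 0 := right_ne_zero_of_mul hg0
  have hor : ho q e a ≠ 0 ∨ ho q e b ≠ 0 := by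
    by_contra hcon
    push Not at hcon
    apply hve'
    obtain ⟨s, t, rfl⟩ := Submodule.mem_span_pair.1 hv
    rw [ho_add_left, ho_smul_left, ho_smul_left, ho_zero_swap hF hcon.1, ho_zero_swap hF hcon.2]
    simp
  by_cases h2 : ho q e a = 0
  · have h3 : ho q e b ≠ 0 := by
      rcases hor with h | h
      · exact absurd h2 h
      · exact h
    refine ⟨ap (tU q b d) e, g, hg, D.conj hb.mem heH, ?_, ?_, ?_⟩
    · rw [ap_t hb.iso, ho_add_left, ho_smul_left, h2, zero_add]
      exact mul_ne_zero (mul_ne_zero hd h3) hba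
    · rw [ap_t hb.iso, ho_add_left, ho_smul_left, hb.iso, mul_zero, add_zero]
      exact h3
    · intro h
      rw [ap_t hb.iso] at h
      apply heW
      have := W.sub_mem h (W.smul_mem (d * ho q e b) hbW)
      rwa [add_sub_cancel_right] at this
  · by_cases h3 : ho q e b = 0
    · refine ⟨ap (tU q a c) e, g, hg, D.conj ha.mem heH, ?_, ?_, ?_⟩
      · rw [ap_t ha.iso, ho_add_left, ho_smul_left, ha.iso, mul_zero, add_zero]
        exact h2
      · rw [ap_t ha.iso, ho_add_left, ho_smul_left, h3, zero_add]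
        exact mul_ne_zero (mul_ne_zero hc h2) hab
      · intro h
        rw [ap_t ha.iso] at h
        apply heW
        have := W.sub_mem h (W.smul_mem (c * ho q e a) haW)
        rwa [add_sub_cancel_right] at this
    · exact ⟨e, g, hg, heH, h2, h3, heW⟩

end Cfsg.Agent.H976.OddM.UnC
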